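import Cfsg.Agent.H572.RV.Asm
import Cfsg.Agent.H170.HL.OmRows
import Cfsg.Prelude.Def_LieTypeChar

/-!
# R2 for `PSp` and `POmega`: `2, p ∉ π` and a Hall `π`-subgroup give `FHall π S` (helper572)
-/

set_option autoImplicit false
set_option linter.unusedSectionVars false

namespace Cfsg.Agent.H572.RV

open Module Cfsg Cfsg.Agent.H167.OP Cfsg.Agent.H170.HL Cfsg.Agent.H988.CPi Cfsg.Agent.H560.HallKey
  Cfsg.Agent.H553.OddHall Cfsg.Agent.H571.RV Cfsg.Agent.H571.DExt Matrix

universe u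

section abs

variable {π : Set ℕ}

/-- the data in `FHall` for a given Hall subgroup -/
def FData {G : Type*} [Group G] (H : Subgroup G) : Prop :=
  ∃ r : ℕ, r.Prime ∧ ∃ A : Subgroup G, A ≤ H ∧ H ≤ Subgroup.normalizer (A : Set G) ∧
    (∀ a ∈ A, ∀ b ∈ A, a * b = b * a) ∧ ¬ r ∣ Nat.card A ∧ ∀ p : ℕ, p.Prime → p ∣ A.relIndex H → p = r

theorem FData.fhall {G : Type*} [Group G] {H : Subgroup G} (h : FData H) (hH : IsPiHall π H) : FHall π G := by
  obtain ⟨r, hr, A, h1, h2, h3, h4, h5⟩ := h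
  exact ⟨r, hr, H, A, hH, h1, h2, h3, h4, h5⟩

theorem fhall_map {G G' : Type*} [Group G] [Group G'] [Finite G] (φ : G →* G') (hφ : Function.Surjective φ)
    (h : FHall π G) : FHall π G' := by
  obtain ⟨r, hr, H, A, hH, h1, h2, h3, h4, h5⟩ := h
  refine ⟨r, hr, H.map φ, A.map φ, isPiHall_map hH φ hφ, Subgroup.map_mono h1, ?_, ?_, ?_, ?_⟩
  · exact (Subgroup.map_mono h2).trans (Subgroup.le_normalizer_map φ)
  · rintro _ ⟨a, ha, rfl⟩ _ ⟨b, hb, rfl⟩
    rw [← map_mul, ← map_mul, h3 a ha b hb]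
  · exact fun hd => h4 (hd.trans (Subgroup.card_map_dvd A φ))
  · intro p hp hd
    apply h5 p hp
    refine hd.trans ?_
    have h6 : (A.map φ).relIndex (H.map φ) = (A ⊔ φ.ker).relIndex H := by
      rw [← Subgroup.relIndex_comap, Subgroup.comap_map_eq]
    rw [h6]
    exact Subgroup.relIndex_dvd_of_le_left H le_sup_left

/-- from an overgroup of `π'`-index -/
theorem fdata_subgroup {G : Type*} [Group G] [Finite G] {N : Subgroup G} {H : Subgroup N}
    (h : FData (H.map N.subtype)) : FData H := by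
  obtain ⟨r, hr, A, h1, h2, h3, h4, h5⟩ := h
  have hAN : A ≤ N := h1.trans (Subgroup.map_subtype_le _)
  have hmap : (A.subgroupOf N).map N.subtype = A := Subgroup.map_subgroupOf_eq_of_le hAN
  refine ⟨r, hr, A.subgroupOf N, ?_, ?_, ?_, ?_, ?_⟩
  · intro a ha
    obtain ⟨b, hb, hab⟩ := h1 ha
    rwa [← Subtype.ext hab]
  · intro g hg
    rw [Subgroup.mem_normalizer_iff]
    intro a
    have := Subgroup.mem_normalizer_iff.mp (h2 ⟨g, hg, rfl⟩) (a : G)
    exact this
  · intro a ha b hb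
    exact Subtype.ext (h3 _ ha _ hb)
  · intro hd
    apply h4
    rwa [Nat.card_congr (Subgroup.subgroupOfEquivOfLe hAN).toEquiv] at hd
  · intro p hp hd
    apply h5 p hp
    have h6 : A.relIndex (H.map N.subtype) = (A.subgroupOf N).relIndex H := by
      rw [← Subgroup.relIndex_comap]
      rfl
    rwa [h6]

theorem isPiHall_up {G : Type*} [Group G] [Finite G] {N : Subgroup G} {H : Subgroup N} (hH : IsPiHall π H)
    (hN : PiN' π N.index) : IsPiHall π (H.map N.subtype) := by
  refine ⟨?_, ?_⟩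
  · intro p hp hd
    rw [Subgroup.card_map_of_injective N.subtype_injective] at hd
    exact hH.1 p hp hd
  · intro p hp hpπ hd
    have h3 : (H.map N.subtype).index = H.index * N.index := by
      have := Subgroup.index_map H N.subtype
      rwa [N.ker_subtype, sup_bot_eq, N.range_subtype] at this
    rw [h3, hp.dvd_mul] at hd
    exact hd.elim (hH.2 p hp hpπ) (hN p hp hpπ)

/-- a Hall subgroup of a quotient by a central subgroup lifts -/
theorem exists_hall_lift {G G' : Type*} [Group G] [Group G'] [Finite G] [Finite G'] (φ : G →* G')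
    (hφ : Function.Surjective φ) (hker : ∀ k, φ k = 1 → ∀ x, k * x = x * k) (h2 : 2 ∉ π)
    (h : IsEPiGroup π G') : ∃ H : Subgroup G, IsPiHall π H := by
  obtain ⟨H, hH⟩ := h
  set M := H.comap φ with hM
  have hsol : Group.IsSolvable M := by
    have hHs : Group.IsSolvable H := solvable_of_pi h2 hH.1
    let ψ : M →* H := (φ.comp M.subtype).codRestrict H (fun x => x.2)
    have h1 : Group.IsSolvable ψ.ker := by
      have : ∀ a b : ψ.ker, a * b = b * a := by
        intro a b
        have h3 : φ ((a : M) : G) = 1 := congrArg Subtype.val (MonoidHom.mem_ker.mp a.2)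
        exact Subtype.ext (Subtype.ext (hker _ h3 _))
      exact Group.isSolvable_of_comm this
    exact Group.isSolvable_of_ker_le_range (G' := ψ.ker) ψ.ker.subtype ψ (by rw [Subgroup.range_subtype])
  obtain ⟨Y, hY⟩ := exists_isPiHall hsol π
  refine ⟨_, isPiHall_up hY ?_⟩
  intro p hp hpπ hd
  rw [hM, Subgroup.index_comap_of_surjective H hφ] at hd
  exact hH.2 p hp hpπ hd

end abs

variable {π : Set ℕ}

theorem cast_ne {F : Type*} [Field F] {p : ℕ} [CharP F p] (hp : p.Prime) (hpπ : p ∉ π) :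
    ∀ r ∈ π, r.Prime → (r : F) ≠ 0 := by
  intro r hr hrp h
  rw [CharP.cast_eq_zero_iff F p, Nat.prime_dvd_prime_iff_eq hp hrp] at h
  exact hpπ (h ▸ hr)

/-- the symplectic group is a full isometry group -/
theorem isoG_sp {F : Type*} [Field F] [Finite F] (m : ℕ) :
    IsoG (K := symplecticGroup (Fin m) F) (rep (SpRow.inc m F)) (SpRow.frm m F) (fun _ => 0) where
  inj := rep_injective SpRow.inc_injective
  iso := SpRow.frm_iso
  nd := SpRow.frm_nondeg
  isoQ := fun _ _ => rfl
  sym := ⟨-1, by ring, SpRow.frm_sym⟩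
  addQ := fun _ _ _ => (add_zero _).symm
  full := fun A hA _ => SpRow.exists_of_iso A hA

/-- **R2 for `PSp`** -/
theorem fhall_psp {S : Type u} [Group S] [Finite S] {p : ℕ} (hS : IsPSpChar p S) (h2 : 2 ∉ π) (hpπ : p ∉ π)
    (h : IsEPiGroup π S) : FHall π S := by
  obtain ⟨F, _, _, hchar, m, hm, hm2, ⟨e⟩⟩ := hS
  have hp : p.Prime := CharP.char_is_prime F p
  have : Finite (symplecticGroup (Fin m) F) := inferInstance
  let φ : symplecticGroup (Fin m) F →* S :=
    (e.symm : Cfsg.PSp m F →* S).comp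
      (QuotientGroup.mk' (Subgroup.center (symplecticGroup (Fin m) F)))
  have hφ : Function.Surjective φ :=
    e.symm.surjective.comp (QuotientGroup.mk'_surjective _)
  have hφ1 : ∀ k, φ k = 1 → ∀ x, k * x = x * k := by
    intro k h
    have h1 : (QuotientGroup.mk' (Subgroup.center (symplecticGroup (Fin m) F))) k = 1 :=
      e.symm.injective (h.trans (map_one e.symm).symm)
    rw [QuotientGroup.mk'_apply, QuotientGroup.eq_one_iff] at h1
    exact fun x => (Subgroup.mem_center_iff.mp h1 x).symm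
  obtain ⟨H, hH⟩ := exists_hall_lift φ hφ hφ1 h2 h
  have h1 : FData H := (isoG_sp m).fhall h2 (cast_ne hp hpπ) hH
  exact fhall_map φ hφ (h1.fhall hH)

/-- the isometry group of a quadratic form is a full isometry group -/
theorem isoG_om {F : Type*} [Field F] [Finite F] {ι : Type} [Fintype ι] [DecidableEq ι]
    {Q : QuadraticForm F (ι → F)} (hQ : OmRow.GoodQ Q) :
    IsoG (K := Cfsg.isometryGroup F (⇑Q)) (rep (OmRow.inc' (⇑Q))) (QuadraticMap.polarBilin Q) (⇑Q) where
  inj := rep_injective OmRow.inc'_injective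
  iso := OmRow.polar_apply Q
  nd := OmRow.polar_nondeg Q hQ.nd
  isoQ := OmRow.iso_apply
  sym := ⟨1, by ring, OmRow.polar_sym Q⟩
  addQ := fun x y h => by
    rw [QuadraticMap.polarBilin_apply_apply, QuadraticMap.polar] at h
    linear_combination h
  full := fun A hA hAQ => by
    have hinj : Function.Injective A := by
      rw [← LinearMap.ker_eq_bot, LinearMap.ker_eq_bot']
      intro v hv
      apply OmRow.polar_nondeg Q hQ.nd
      intro w
      rw [← hA, hv, map_zero]
    let e : (ι → F) ≃ₗ[F] (ι → F) := LinearEquiv.ofInjectiveEndo A hinj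
    have he : ∀ v, e v = A v := fun v => rfl
    refine OmRow.exists_of_iso (⇑Q) A (e.symm : (ι → F) →ₗ[F] (ι → F)) ?_ ?_ hAQ
    · apply LinearMap.ext
      intro v
      exact e.apply_symm_apply v
    · apply LinearMap.ext
      intro v
      exact e.symm_apply_apply v

theorem index_omega {F : Type*} [Field F] [Finite F] {ι : Type} [Fintype ι] [DecidableEq ι]
    {Q : QuadraticForm F (ι → F)} (hQ : OmRow.GoodQ Q) (h2 : 2 ∉ π) : PiN' π (Cfsg.Omega F (⇑Q)).index := by
  have : Finite (Cfsg.isometryGroup F (⇑Q)) := inferInstance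
  intro p hp hpπ hd
  have hpf := Fact.mk hp
  have hn : (Cfsg.Omega F (⇑Q)).Normal := inferInstanceAs ((commutator (Cfsg.isometryGroup F (⇑Q))).Normal)
  rw [Subgroup.index_eq_card] at hd
  obtain ⟨x, hx⟩ := exists_prime_orderOf_dvd_card' (G := Cfsg.isometryGroup F (⇑Q) ⧸ Cfsg.Omega F (⇑Q)) p hd
  obtain ⟨g, rfl⟩ := QuotientGroup.mk'_surjective _ x
  have h1 : (QuotientGroup.mk' (Cfsg.Omega F (⇑Q)) g) ^ 2 = 1 := by
    rw [← map_pow, QuotientGroup.mk'_apply, QuotientGroup.eq_one_iff, pow_two]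
    exact hQ.sq g
  have h3 := orderOf_dvd_of_pow_eq_one h1
  rw [hx, Nat.prime_dvd_prime_iff_eq hp Nat.prime_two] at h3
  exact h2 (h3 ▸ hpπ)

/-- a form version -/
theorem fhall_omega {S : Type u} [Group S] [Finite S] {p : ℕ} {F : Type*} [Field F] [Finite F] [CharP F p]
    {ι : Type} [Fintype ι] [DecidableEq ι] {Q : QuadraticForm F (ι → F)} (hQ : OmRow.GoodQ Q)
    {Q' : (ι → F) → F} (hQQ : ⇑Q = Q') (e : S ≃* Cfsg.POmega F Q') (h2 : 2 ∉ π) (hpπ : p ∉ π)
    (h : IsEPiGroup π S) : FHall π S := by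
  subst hQQ
  have hp : p.Prime := CharP.char_is_prime F p
  have : Finite (Cfsg.isometryGroup F (⇑Q)) := inferInstance
  let φ : Cfsg.Omega F (⇑Q) →* S :=
    (e.symm : Cfsg.POmega F (⇑Q) →* S).comp
      (QuotientGroup.mk' (Subgroup.center (Cfsg.Omega F (⇑Q))))
  have hφ : Function.Surjective φ :=
    e.symm.surjective.comp (QuotientGroup.mk'_surjective _)
  have hφ1 : ∀ k, φ k = 1 → ∀ x, k * x = x * k := by
    intro k h
    have h1 : (QuotientGroup.mk' (Subgroup.center (Cfsg.Omega F (⇑Q)))) k = 1 :=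
      e.symm.injective (h.trans (map_one e.symm).symm)
    rw [QuotientGroup.mk'_apply, QuotientGroup.eq_one_iff] at h1
    exact fun x => (Subgroup.mem_center_iff.mp h1 x).symm
  obtain ⟨H, hH⟩ := exists_hall_lift φ hφ hφ1 h2 h
  have hH' := isPiHall_up hH (index_omega hQ h2)
  have h1 : FData H := fdata_subgroup ((isoG_om hQ).fhall h2 (cast_ne hp hpπ) hH')
  exact fhall_map φ hφ (h1.fhall hH)

/-- **R2 for `POmega`, odd dimension** -/
theorem fhall_pomegaOdd {S : Type u} [Group S] [Finite S] {p : ℕ} (hS : IsPOmegaOddChar p S) (h2 : 2 ∉ π)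
    (hpπ : p ∉ π) (h : IsEPiGroup π S) : FHall π S := by
  obtain ⟨F, _, _, hchar, m, hm, hodd, ⟨e⟩⟩ := hS
  have h2' : (2 : F) ≠ 0 := by
    intro h
    have h1 : ((2 : ℕ) : F) = 0 := by exact_mod_cast h
    have hp : p.Prime := CharP.char_is_prime F p
    rw [CharP.cast_eq_zero_iff F p, Nat.prime_dvd_prime_iff_eq hp Nat.prime_two] at h1
    subst h1
    obtain ⟨n, hn⟩ := FiniteField.card F 2
    rw [hn.2] at hodd
    have : Even (2 ^ (n : ℕ)) := (Nat.even_pow.mpr ⟨even_two, n.ne_zero⟩)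
    exact (Nat.not_even_iff_odd.mpr hodd) this
  exact fhall_omega (OmRow.goodQ_odd (by omega) h2') (Cfsg.Agent.LieClassical.OrthForms.coe_oddForm m F) e h2 hpπ h

/-- **R2 for `POmega`, plus type** -/
theorem fhall_pomegaPlus {S : Type u} [Group S] [Finite S] {p : ℕ} (hS : IsPOmegaPlusChar p S) (h2 : 2 ∉ π)
    (hpπ : p ∉ π) (h : IsEPiGroup π S) : FHall π S := by
  obtain ⟨F, _, _, hchar, m, hm, ⟨e⟩⟩ := hS
  exact fhall_omega (OmRow.goodQ_plus (by omega)) (Cfsg.Agent.LieClassical.OrthForms.coe_plusForm m F) e h2 hpπ h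

/-- **R2 for `POmega`, minus type** -/
theorem fhall_pomegaMinus {S : Type u} [Group S] [Finite S] {p : ℕ} (hS : IsPOmegaMinusChar p S) (h2 : 2 ∉ π)
    (hpπ : p ∉ π) (h : IsEPiGroup π S) : FHall π S := by
  obtain ⟨F, _, _, hchar, m, a, b, hm, hab, ⟨e⟩⟩ := hS
  exact fhall_omega (OmRow.goodQ_minus (by omega) a b hab)
    (Cfsg.Agent.LieClassical.OrthForms.coe_minusForm (m - 1) F a b) e h2 hpπ h

end Cfsg.Agent.H572.RV
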