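import Cfsg.Agent.H572.RV.Perm
import Cfsg.Agent.H571.RV.Pred

/-!
# `FHall` for full isometry groups, `2 ∉ π`, `char F ∉ π` (helper572)
-/

set_option autoImplicit false
set_option linter.unusedSectionVars false

namespace Cfsg.Agent.H572.RV

open Module Cfsg Cfsg.Agent.H167.OP Cfsg.Agent.H170.HL Cfsg.Agent.H988.CPi Cfsg.Agent.H560.HallKey
  Cfsg.Agent.H553.OddHall Cfsg.Agent.H571.RV

theorem card_sup {G : Type*} [Group G] {Y A : Subgroup G} (h : Y ≤ Subgroup.normalizer (A : Set G)) :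
    Nat.card (Y ⊔ A : Subgroup G) = Nat.card A * A.relIndex Y := by
  set M := Y ⊔ A with hM
  have hYM : A ≤ M := le_sup_right
  have hn : (A.subgroupOf M).Normal :=
    (Subgroup.normal_subgroupOf_iff_le_normalizer hYM).mpr (sup_le h Subgroup.le_normalizer)
  have h1 : Y.subgroupOf M ⊔ A.subgroupOf M = ⊤ := by
    rw [← Subgroup.subgroupOf_sup le_sup_left hYM]
    exact Subgroup.subgroupOf_self _
  have h2 := Subgroup.relIndex_sup_right (Y.subgroupOf M) (A.subgroupOf M)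
  rw [h1, Subgroup.relIndex_top_right] at h2
  have h3 : Nat.card M = Nat.card A * (A.subgroupOf M).index := by
    rw [← Nat.card_congr (Subgroup.subgroupOfEquivOfLe hYM).toEquiv, Subgroup.card_mul_index]
  rw [h3, h2, Subgroup.relIndex_subgroupOf le_sup_left]

theorem mx_of_hall {K : Type*} [Group K] [Finite K] {π : Set ℕ} {H : Subgroup K} (hH : IsPiHall π H)
    {t : ℕ} (ht : t.Prime) (htπ : t ∈ π) : MX t H := by
  have htf := Fact.mk ht
  intro R hR hn
  have h1 := card_sup hn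
  have h2 : PiN π (Nat.card (H ⊔ R : Subgroup K)) := by
    rw [h1]
    refine PiN.mul ?_ ?_
    · obtain ⟨n, hn⟩ := IsPGroup.iff_card.mp hR
      intro r hr hd
      rw [hn] at hd
      rw [(Nat.prime_dvd_prime_iff_eq hr ht).mp (hr.dvd_of_dvd_pow hd)]
      exact htπ
    · exact PiN.of_dvd hH.1 (Subgroup.relIndex_dvd_card _ _)
  have h3 : H.relIndex (H ⊔ R) = 1 := by
    by_contra hne
    obtain ⟨p, hp, hd⟩ := Nat.exists_prime_and_dvd hne
    have hpπ := h2 p hp (hd.trans (Subgroup.relIndex_dvd_card _ _))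
    exact hH.2 p hp hpπ (hd.trans (Subgroup.relIndex_dvd_index_of_le le_sup_left))
  exact le_sup_right.trans (Subgroup.relIndex_eq_one.mp h3)

variable {F : Type*} [Field F] [Finite F] {V : Type*} [AddCommGroup V] [Module F V] [Finite V]
  [FiniteDimensional F V] {K : Type*} [Group K] [Finite K]
  {ρ : Representation F K V} {f : V →ₗ[F] V →ₗ[F] F} {Q : V → F}

theorem odd_of {π : Set ℕ} (h2 : 2 ∉ π) {t : ℕ} (ht : t.Prime) (htπ : t ∈ π) : Odd t := by
  rcases ht.eq_two_or_odd' with h | h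
  · exact absurd (h ▸ htπ) h2
  · exact h

theorem IsoG.std (h : IsoG ρ f Q) {π : Set ℕ} (h2 : 2 ∉ π) (hp : ∀ r ∈ π, r.Prime → (r : F) ≠ 0)
    {H : Subgroup K} (hH : IsPiHall π H) {t : ℕ} (ht : t.Prime) (htπ : t ∈ π) : Std ρ f Q t H where
  toIsoG := h
  ht := ht
  hto := odd_of h2 ht htπ
  htF := hp t htπ ht
  hH := fun r hr hd => ⟨odd_of h2 hr (hH.1 r hr hd), hp r (hH.1 r hr hd) hr⟩
  hMX := mx_of_hall hH ht htπ

/-- **`FHall` for the full isometry group** -/
theorem IsoG.fhall (h : IsoG ρ f Q) {π : Set ℕ} (h2 : 2 ∉ π) (hp : ∀ r ∈ π, r.Prime → (r : F) ≠ 0)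
    {H : Subgroup K} (hH : IsPiHall π H) :
    ∃ r : ℕ, r.Prime ∧ ∃ A : Subgroup K, A ≤ H ∧ H ≤ Subgroup.normalizer (A : Set K) ∧
    (∀ a ∈ A, ∀ b ∈ A, a * b = b * a) ∧ ¬ r ∣ Nat.card A ∧ ∀ p : ℕ, p.Prime → p ∣ A.relIndex H → p = r := by
  classical
  -- the exceptional primes
  let Ex : ℕ → Prop := fun t => t.Prime ∧ t ∈ π ∧ ∃ T : Subgroup K, SylT ρ f Q t H T ∧
    ∃ x ∈ T, ∃ U ∈ Bl ρ t H, U.map (ρ x) ≠ U
  have hEx : ∀ s t : ℕ, Ex s → Ex t → s < t → False := by
    rintro s t ⟨hs, hsπ, -⟩ ⟨ht, htπ, T, hT, hmv⟩ hst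
    exact hT.perm hH h2 htπ hmv hs hsπ hst
  have hEx' : ∀ s t : ℕ, Ex s → Ex t → s = t := by
    intro s t hs ht
    rcases lt_trichotomy s t with h1 | h1 | h1
    · exact (hEx s t hs ht h1).elim
    · exact h1
    · exact (hEx t s ht hs h1).elim
  obtain ⟨r, hr, hrEx⟩ : ∃ r : ℕ, r.Prime ∧ ∀ t, Ex t → t = r := by
    by_cases hex : ∃ r, Ex r
    · obtain ⟨r, hr⟩ := hex
      exact ⟨r, hr.1, fun t ht => hEx' t r ht hr⟩
    · exact ⟨2, Nat.prime_two, fun t ht => absurd ⟨t, ht⟩ hex⟩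
  -- Sylow subgroups for the other primes
  have hSyl : ∀ t : ℕ, t.Prime → t ∈ π → t ≠ r → ¬ t ∣ (Subgroup.closure (Zs ρ t H)).index := by
    intro t ht htπ htr hd
    have htf := Fact.mk ht
    obtain ⟨T, S, hS⟩ := exists_sylow_map (t := t) htπ hH
    have hT : SylT ρ f Q t H (S : Subgroup K) :=
      { toStd := h.std h2 hp hH ht htπ
        hT := S.isPGroup'
        hTH := by rw [hS]; exact Subgroup.map_subtype_le _
        hmax := fun R hR hle => S.is_maximal' hR hle }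
    have hfix : ∀ x ∈ (S : Subgroup K), ∀ U ∈ Bl ρ t H, U.map (ρ x) = U := by
      by_contra hcon
      push Not at hcon
      exact htr (hrEx t ⟨ht, htπ, _, hT, hcon⟩)
    exact S.not_dvd_index (hd.trans (Subgroup.index_dvd_of_le (hT.le_closure hfix)))
  let SA : Set K := {z | ∃ t : ℕ, t.Prime ∧ t ∈ π ∧ t ≠ r ∧ z ∈ Zs ρ t H}
  have hcomm : ∀ a ∈ SA, ∀ b ∈ SA, a * b = b * a := by
    rintro a ⟨t, ht, htπ, -, ha⟩ b ⟨s, hs, hsπ, -, hb⟩
    have htf := Fact.mk ht
    have hsf := Fact.mk hs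
    have ht' := h.std h2 hp hH ht htπ
    have hs' := h.std h2 hp hH hs hsπ
    by_cases hst : t = s
    · subst hst
      exact ht'.comm_zs ha hb
    · set A := Subgroup.closure (Zs ρ t H) with hA
      set B := Subgroup.closure (Zs ρ s H) with hB
      have haA : a ∈ A := Subgroup.subset_closure ha
      have hbB : b ∈ B := Subgroup.subset_closure hb
      have hAn := ht'.le_norm
      have hBn := hs'.le_norm
      have h1 : a * b * a⁻¹ * b⁻¹ ∈ B :=
        B.mul_mem ((Subgroup.mem_normalizer_iff.mp (hBn ha.1) b).mp hbB) (B.inv_mem hbB)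
      have h3 : a * b * a⁻¹ * b⁻¹ ∈ A := by
        have h4 := (Subgroup.mem_normalizer_iff.mp (hAn hb.1) a⁻¹).mp (A.inv_mem haA)
        have h5 := A.mul_mem haA h4
        convert h5 using 1
        group
      have h4 : Disjoint A B := IsPGroup.disjoint_of_ne t s hst A B ht'.closure_comm.2 hs'.closure_comm.2
      have h5 : a * b * a⁻¹ * b⁻¹ = 1 := by
        have : a * b * a⁻¹ * b⁻¹ ∈ A ⊓ B := ⟨h3, h1⟩
        rwa [h4.eq_bot, Subgroup.mem_bot] at this
      calc a * b = (a * b * a⁻¹ * b⁻¹) * (b * a) := by group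
        _ = b * a := by rw [h5, one_mul]
  have hAcomm : ∀ a ∈ Subgroup.closure SA, ∀ b ∈ Subgroup.closure SA, a * b = b * a := by
    have h1 : Subgroup.closure SA ≤ Subgroup.centralizer SA := by
      rw [Subgroup.closure_le]
      intro a ha
      rw [SetLike.mem_coe, Subgroup.mem_centralizer_iff]
      exact fun b hb => hcomm b hb a ha
    have h2 : Subgroup.closure SA ≤ Subgroup.centralizer (Subgroup.closure SA : Set K) := by
      rw [Subgroup.closure_le]
      intro a ha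
      rw [SetLike.mem_coe, Subgroup.mem_centralizer_iff]
      intro b hb
      exact (Subgroup.mem_centralizer_iff.mp (h1 hb) a ha).symm
    exact fun a ha b hb => (Subgroup.mem_centralizer_iff.mp (h2 ha) b hb).symm
  have hAr : ∀ a ∈ Subgroup.closure SA, ∃ n : ℕ, ¬ r ∣ n ∧ a ^ n = 1 := by
    intro a ha
    induction ha using Subgroup.closure_induction with
    | mem x hx =>
      obtain ⟨t, ht, htπ, htr, hx⟩ := hx
      obtain ⟨k, hk⟩ := hx.2.1
      refine ⟨t ^ k, ?_, hk⟩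
      intro hd
      exact htr ((Nat.prime_dvd_prime_iff_eq hr ht).mp (hr.dvd_of_dvd_pow hd)).symm
    | one => exact ⟨1, hr.one_lt.ne' ∘ Nat.dvd_one.mp, one_pow 1⟩
    | mul a b ha hb iha ihb =>
      obtain ⟨n, hn, hn'⟩ := iha
      obtain ⟨m, hm, hm'⟩ := ihb
      refine ⟨n * m, ?_, ?_⟩
      · rw [hr.dvd_mul]
        exact fun h0 => h0.elim hn hm
      · have hc : Commute a b := hAcomm a ha b hb
        rw [hc.mul_pow, pow_mul, hn', one_pow, one_mul, mul_comm, pow_mul, hm', one_pow]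
    | inv a _ ih =>
      obtain ⟨n, hn, hn'⟩ := ih
      exact ⟨n, hn, by rw [inv_pow, hn', inv_one]⟩
  refine ⟨r, hr, Subgroup.closure SA, ?_, ?_, hAcomm, ?_, ?_⟩
  · rw [Subgroup.closure_le]
    rintro a ⟨t, -, -, -, ha⟩
    exact ha.1
  · refine le_normalizer_closure H SA ?_
    rintro g hg a ⟨t, ht, htπ, htr, ha⟩
    exact ⟨t, ht, htπ, htr, Zs_conj hg ha⟩
  · intro hd
    have hrf := Fact.mk hr
    obtain ⟨a, ha⟩ := exists_prime_orderOf_dvd_card' (G := Subgroup.closure SA) r hd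
    obtain ⟨n, hn, hn'⟩ := hAr a a.2
    apply hn
    rw [← ha, ← Subgroup.orderOf_coe]
    exact orderOf_dvd_of_pow_eq_one hn'
  · intro p hpp hd
    by_contra hpr
    have hpπ : p ∈ π := hH.1 p hpp (hd.trans (Subgroup.relIndex_dvd_card _ _))
    apply hSyl p hpp hpπ hpr
    have h1 : Subgroup.closure (Zs ρ p H) ≤ Subgroup.closure SA :=
      Subgroup.closure_mono fun z hz => ⟨p, hpp, hpπ, hpr, hz⟩
    have h3 : Subgroup.closure SA ≤ H := by
      rw [Subgroup.closure_le]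
      rintro a ⟨t, -, -, -, ha⟩
      exact ha.1
    exact (hd.trans (Subgroup.relIndex_dvd_index_of_le h3)).trans (Subgroup.index_dvd_of_le h1)

end Cfsg.Agent.H572.RV
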