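import Cfsg.Agent.H572.RV.Parts

/-!
# Blocks: the minimal supports of small elements (helper572)
-/

set_option autoImplicit false
set_option linter.unusedSectionVars false

namespace Cfsg.Agent.H572.RV

open Module Cfsg.Agent.H167.OP Cfsg.Agent.H170.HL Cfsg.Agent.H988.CPi Cfsg.Agent.H560.HallKey
  Cfsg.Agent.H553.OddHall

variable {F : Type*} [Field F] [Finite F] {V : Type*} [AddCommGroup V] [Module F V] [Finite V]
  [FiniteDimensional F V] {K : Type*} [Group K] [Finite K] {t : ℕ}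
  {ρ : Representation F K V} {f : V →ₗ[F] V →ₗ[F] F} {Q : V → F} {U U₁ U₂ : Submodule F V}

theorem mem_of_map {g : K} (hg : U.map (ρ g) = U) {u : V} (hu : u ∈ U) : ρ g u ∈ U := by
  rw [← hg]; exact ⟨u, hu, rfl⟩

theorem map_inv_of_map {g : K} (hg : U.map (ρ g) = U) : U.map (ρ g⁻¹) = U := by
  nth_rewrite 1 [← hg]
  ext v
  constructor
  · rintro ⟨_, ⟨u, hu, rfl⟩, rfl⟩
    rw [inv_ap]; exact hu
  · intro hv
    exact ⟨ρ g v, ⟨v, hv, rfl⟩, inv_ap ρ g v⟩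

theorem IsPart.inv {x k : K} (hk : IsPart ρ f U x k) (hx : U.map (ρ x) = U) : IsPart ρ f U x⁻¹ k⁻¹ := by
  constructor
  · intro u hu
    have h1 : ρ x⁻¹ u ∈ U := mem_of_map (map_inv_of_map hx) hu
    have h2 := hk.1 _ h1
    rw [ap_inv] at h2
    rw [← h2, inv_ap, h2]
  · intro w hw
    have h2 := hk.2 w hw
    nth_rewrite 1 [← h2]
    rw [inv_ap]

theorem Orth_map_of_map (h : IsoG ρ f Q) {g : K} (hg : U.map (ρ g) = U) :
    (Orth f U).map (ρ g) = Orth f U := by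
  rw [← Orth_map h, hg]

/-- splitting off a part -/
theorem split (h : IsoG ρ f Q) (hU : ND f U) {x k : K} (hx : U.map (ρ x) = U) (hk : IsPart ρ f U x k) :
    (∀ u ∈ U, ρ (x * k⁻¹) u = u) ∧ (∀ w ∈ Orth f U, ρ (x * k⁻¹) w = ρ x w) ∧
      sp ρ (x * k⁻¹) ≤ Orth f U ∧ sp ρ (x * k⁻¹) ≤ sp ρ x ∧ sp ρ x ≤ sp ρ k ⊔ sp ρ (x * k⁻¹) ∧
      ((∃ u ∈ U, ρ x u ≠ u) → finrank F (sp ρ (x * k⁻¹)) < finrank F (sp ρ x)) := by
  have hki := hk.inv hx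
  have h1 : ∀ u ∈ U, ρ (x * k⁻¹) u = u := by
    intro u hu
    rw [mul_ap, hki.1 u hu, ap_inv]
  have h2 : ∀ w ∈ Orth f U, ρ (x * k⁻¹) w = ρ x w := by
    intro w hw
    rw [mul_ap, hki.2 w hw]
  have hO := Orth_map_of_map h hx
  have h3 : sp ρ (x * k⁻¹) ≤ Orth f U := by
    rintro _ ⟨v, rfl⟩
    obtain ⟨u, hu, w, hw, rfl⟩ := decomp hU v
    have e : (ρ (x * k⁻¹) - 1) (u + w) = ρ x w - w := by
      show ρ (x * k⁻¹) (u + w) - (u + w) = _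
      rw [map_add, h1 u hu, h2 w hw]
      abel
    rw [e]
    exact (Orth f U).sub_mem (mem_of_map hO hw) hw
  have h4 : sp ρ (x * k⁻¹) ≤ sp ρ x := by
    rintro _ ⟨v, rfl⟩
    obtain ⟨u, hu, w, hw, rfl⟩ := decomp hU v
    have e : (ρ (x * k⁻¹) - 1) (u + w) = ρ x w - w := by
      show ρ (x * k⁻¹) (u + w) - (u + w) = _
      rw [map_add, h1 u hu, h2 w hw]
      abel
    rw [e]
    exact mem_sp w
  have h5 : sp ρ x ≤ sp ρ k ⊔ sp ρ (x * k⁻¹) := by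
    rintro _ ⟨v, rfl⟩
    obtain ⟨u, hu, w, hw, rfl⟩ := decomp hU v
    have e : (ρ x - 1) (u + w) = (ρ k u - u) + (ρ (x * k⁻¹) w - w) := by
      show ρ x (u + w) - (u + w) = _
      rw [map_add, hk.1 u hu, h2 w hw]
      abel
    rw [e]
    exact Submodule.add_mem_sup (mem_sp u) (mem_sp w)
  refine ⟨h1, h2, h3, h4, h5, ?_⟩
  rintro ⟨u, hu, hne⟩
  apply Submodule.finrank_lt_finrank_of_lt
  refine lt_of_le_of_ne h4 ?_
  intro heq
  have h6 : ρ x u - u ∈ sp ρ (x * k⁻¹) := by rw [heq]; exact mem_sp u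
  have h7 := h3 h6
  have h8 : ρ x u - u ∈ U := U.sub_mem (mem_of_map hx hu) hu
  exact hne (sub_eq_zero.mp (hU _ h8 h7))

/-- blocks: the minimal supports -/
def Bl (ρ : Representation F K V) (t : ℕ) (H : Subgroup K) : Set (Submodule F V) :=
  {U | ∃ z ∈ Zs ρ t H, U = sp ρ z ∧ z ≠ 1 ∧ ∀ z' ∈ Zs ρ t H, z' ≠ 1 → sp ρ z' ≤ U → sp ρ z' = U}

theorem Zs_conj {H : Subgroup K} {g z : K} (hg : g ∈ H) (hz : z ∈ Zs ρ t H) : g * z * g⁻¹ ∈ Zs ρ t H :=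
  ⟨H.mul_mem (H.mul_mem hg hz.1) (H.inv_mem hg), hz.2.conj g⟩

theorem Bl_map {H : Subgroup K} {g : K} (hg : g ∈ H) {U : Submodule F V} (hU : U ∈ Bl ρ t H) :
    U.map (ρ g) ∈ Bl ρ t H := by
  obtain ⟨z, hz, rfl, hz1, hmin⟩ := hU
  refine ⟨g * z * g⁻¹, Zs_conj hg hz, (sp_conj g z).symm, ?_, ?_⟩
  · rw [Ne, conj_eq_one_iff]; exact hz1
  · intro z' hz' hz'1 hle
    have h1 := hmin (g⁻¹ * z' * g⁻¹⁻¹) (Zs_conj (H.inv_mem hg) hz') (by rw [Ne, conj_eq_one_iff]; exact hz'1) ?_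
    · rw [← h1, sp_conj]
      ext v
      constructor
      · intro hv
        exact ⟨ρ g⁻¹ v, ⟨v, hv, rfl⟩, ap_inv ρ g v⟩
      · rintro ⟨_, ⟨u, hu, rfl⟩, rfl⟩
        rw [ap_inv]; exact hu
    · rw [sp_conj]
      rintro _ ⟨v, hv, rfl⟩
      obtain ⟨u, hu, rfl⟩ := hle hv
      rw [inv_ap]; exact hu

/-- standing hypotheses -/
structure Std (ρ : Representation F K V) (f : V →ₗ[F] V →ₗ[F] F) (Q : V → F) (t : ℕ) (H : Subgroup K) : Prop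
    extends IsoG ρ f Q where
  ht : t.Prime
  hto : Odd t
  htF : (t : F) ≠ 0
  hH : PiN (Pi0 F) (Nat.card H)
  hMX : MX t H

variable {H : Subgroup K}

theorem Std.comm_zs (h : Std ρ f Q t H) {a b : K} (ha : a ∈ Zs ρ t H) (hb : b ∈ Zs ρ t H) : a * b = b * a :=
  h.toIsoG.toFRep.comm_small h.ht h.hto h.htF h.hH ha.2 ha.1 hb.2 hb.1

theorem Std.ndz (h : Std ρ f Q t H) {z : K} (hz : z ∈ Zs ρ t H) : ND f (sp ρ z) :=
  nd_sp h.toIsoG h.htF hz.2.1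

theorem Std.exists_part (h : Std ρ f Q t H) {x z : K} (hx : x ∈ Zs ρ t H) (hz : z ∈ Zs ρ t H) :
    ∃ k ∈ Zs ρ t H, IsPart ρ f (sp ρ z) x k := by
  obtain ⟨k, hk⟩ := h.toIsoG.exists_part (h.ndz hz) (fun u hu => map_mem_of_comm (h.comm_zs hx hz) hu)
  exact ⟨k, h.toIsoG.part_mem h.ht h.hto h.htF h.hH h.hMX hx hz hk, hk⟩

theorem Std.nd_bl (h : Std ρ f Q t H) {U : Submodule F V} (hU : U ∈ Bl ρ t H) : ND f U := by
  obtain ⟨z, hz, rfl, -⟩ := hU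
  exact h.ndz hz

theorem Std.bl_ne_bot (h : Std ρ f Q t H) {U : Submodule F V} (hU : U ∈ Bl ρ t H) : U ≠ ⊥ := by
  obtain ⟨z, hz, rfl, h1, -⟩ := hU
  rw [Ne, sp_eq_bot h.inj]
  exact h1

/-- every nontrivial support contains a block -/
theorem exists_bl {z : K} (hz : z ∈ Zs ρ t H) (hz1 : z ≠ 1) :
    ∃ U ∈ Bl ρ t H, U ≤ sp ρ z := by
  classical
  let S : Set (Submodule F V) := {U | ∃ z' ∈ Zs ρ t H, U = sp ρ z' ∧ z' ≠ 1 ∧ U ≤ sp ρ z}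
  have hS : S.Nonempty := ⟨_, z, hz, rfl, hz1, le_rfl⟩
  have hfin : Finite (Submodule F V) := Finite.of_injective (fun U : Submodule F V => (U : Set V)) SetLike.coe_injective
  obtain ⟨U, ⟨z', hz', rfl, hz'1, hle⟩, hmin⟩ := (Set.toFinite S).exists_minimal hS
  refine ⟨_, ⟨z', hz', rfl, hz'1, ?_⟩, hle⟩
  intro z'' hz'' hz''1 hle'
  exact le_antisymm hle' (hmin ⟨z'', hz'', rfl, hz''1, hle'.trans hle⟩ hle')

/-- distinct blocks are orthogonal -/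
theorem Std.bl_orth (h : Std ρ f Q t H) (hU₁ : U₁ ∈ Bl ρ t H) (hU₂ : U₂ ∈ Bl ρ t H) (hne : U₁ ≠ U₂) :
    ∀ u ∈ U₁, ∀ v ∈ U₂, f u v = 0 := by
  obtain ⟨z, hz, rfl, hz1, hmin⟩ := hU₁
  obtain ⟨z', hz', rfl, hz'1, hmin'⟩ := hU₂
  obtain ⟨k, hkZ, hk⟩ := h.exists_part hz' hz
  have h1 : sp ρ k ≤ sp ρ z := hk.sp_le (h.ndz hz) (fun u hu => map_mem_of_comm (h.comm_zs hz' hz) hu)
  have h2 : sp ρ k ≤ sp ρ z' := hk.sp_le' (h.ndz hz)
  by_cases hk1 : k = 1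
  · intro u hu v hv
    apply h.toIsoG.refl
    have h3 : ρ z' u = u := by rw [← hk.1 u hu, hk1, one_ap]
    exact (mem_Orth_sp h.toIsoG).mpr h3 v hv
  · exfalso
    have h3 := hmin k hkZ hk1 h1
    rw [h3] at h2
    exact hne (hmin' z hz hz1 h2)

theorem tel_mul {a b : K} (hab : a * b = b * a) (ha : ∃ k : ℕ, a ^ t ^ k = 1) (hb : ∃ k : ℕ, b ^ t ^ k = 1) :
    ∃ k : ℕ, (a * b) ^ t ^ k = 1 := by
  obtain ⟨i, hi⟩ := ha
  obtain ⟨j, hj⟩ := hb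
  refine ⟨i + j, ?_⟩
  have hc : Commute a b := hab
  rw [hc.mul_pow, pow_add, pow_mul, hi, one_pow, one_mul, mul_comm, pow_mul, hj, one_pow]

theorem tel_inv {a : K} (ha : ∃ k : ℕ, a ^ t ^ k = 1) : ∃ k : ℕ, a⁻¹ ^ t ^ k = 1 := by
  obtain ⟨i, hi⟩ := ha
  exact ⟨i, by rw [inv_pow, hi, inv_one]⟩

/-- the supports are contained in every subspace containing all blocks -/
theorem Std.sp_le_of_bl (h : Std ρ f Q t H) {P : Submodule F V} (hP : ∀ U ∈ Bl ρ t H, U ≤ P) (n : ℕ) :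
    ∀ z ∈ Zs ρ t H, finrank F (sp ρ z) = n → sp ρ z ≤ P := by
  induction n using Nat.strong_induction_on with
  | _ n ih =>
    intro z hz hn
    by_cases hz1 : z = 1
    · rw [(sp_eq_bot h.inj).mpr hz1]; exact bot_le
    · obtain ⟨U, hU, hUz⟩ := exists_bl hz hz1
      have hU' := hU
      obtain ⟨z₀, hz₀, rfl, hz₀1, -⟩ := hU
      obtain ⟨k, hkZ, hk⟩ := h.exists_part hz hz₀
      have hzz₀ := h.comm_zs hz hz₀
      have hmap : (sp ρ z₀).map (ρ z) = sp ρ z₀ := map_sp_of_comm hzz₀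
      obtain ⟨h1, h2, h3, h4, h5, h6⟩ := split h.toIsoG (h.ndz hz₀) hmap hk
      have hzk := h.comm_zs hz hkZ
      have hz' : z * k⁻¹ ∈ Zs ρ t H := by
        refine ⟨H.mul_mem hz.1 (H.inv_mem hkZ.1), small_of_sp_le ?_ hz.2 h4⟩
        exact tel_mul (by rw [eq_inv_mul_iff_mul_eq, ← mul_assoc, ← hzk, mul_inv_cancel_right]) hz.2.1
          (tel_inv hkZ.2.1)
      have hlt : finrank F (sp ρ (z * k⁻¹)) < n := by
        rw [← hn]
        apply h6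
        by_contra hcon
        push Not at hcon
        have h7 : sp ρ z₀ ≤ Orth f (sp ρ z) := fun u hu => (mem_Orth_sp h.toIsoG).mpr (hcon u hu)
        have h8 : sp ρ z₀ = ⊥ := by
          rw [eq_bot_iff]
          intro u hu
          exact h.ndz hz u (hUz hu) (fun x hx => h7 hu x hx)
        rw [sp_eq_bot h.inj] at h8
        exact hz₀1 h8
      refine h5.trans (sup_le ?_ (ih _ hlt _ hz' rfl))
      exact (hk.sp_le (h.ndz hz₀) (fun u hu => mem_of_map hmap hu)).trans (hP _ hU')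

end Cfsg.Agent.H572.RV
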