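import Cfsg.Agent.H572.RV.Weight
import Cfsg.Agent.H560.HallKey
import Cfsg.Agent.H170.HL.Small

/-!
# Small `t`-elements of a group preserving a form (helper572)

`z` is small if `dim [V, z] ≤ t - 1`. The small `t`-elements of a `π`-group (`2 ∉ π`, `char F ∉ π`) lie in all Sylow
`t`-subgroups and commute with each other.
-/

set_option autoImplicit false
set_option linter.unusedSectionVars false

namespace Cfsg.Agent.H572.RV

open Module Cfsg.Agent.H167.OP Cfsg.Agent.H170.HL Cfsg.Agent.H988.CPi Cfsg.Agent.H560.HallKey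
  Cfsg.Agent.H553.OddHall

/-- an abelian subgroup which is normalised but not centralised -/
theorem exists_abelian_moved {K : Type*} [Group K] [Finite K] {L : Subgroup K} (hnil : Group.IsNilpotent L)
    (hL : ¬ ∀ a ∈ L, ∀ b ∈ L, a * b = b * a) :
    ∃ D ≤ L, (∀ a ∈ D, ∀ b ∈ D, a * b = b * a) ∧ ∃ y ∈ L, Nrm y D ∧ ∃ d ∈ D, y * d ≠ d * y := by
  classical
  let S : Set (Subgroup L) := {D | ∀ a ∈ D, ∀ b ∈ D, a * b = b * a}
  have hS : S.Nonempty := ⟨⊥, fun a ha b hb => by
    rw [Subgroup.mem_bot] at ha hb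
    rw [ha, hb]⟩
  obtain ⟨D, hDS, hDmax⟩ := (Set.toFinite S).exists_maximal hS
  have hDne : D ≠ ⊤ := by
    intro h
    apply hL
    intro a ha b hb
    have h1 := hDS ⟨a, ha⟩ (by rw [h]; trivial) ⟨b, hb⟩ (by rw [h]; trivial)
    exact congrArg Subtype.val h1
  have hlt := Group.normalizerCondition_of_isNilpotent (G := L) D (lt_top_iff_ne_top.mpr hDne)
  obtain ⟨y, hyN, hyD⟩ := SetLike.exists_of_lt hlt
  have hnc : ∃ d ∈ D, y * d ≠ d * y := by
    by_contra hcon
    push Not at hcon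
    -- `D ⊔ ⟨y⟩` is abelian
    have h1 : (Subgroup.closure ((D : Set L) ∪ {y})) ∈ S := by
      have hcl : ∀ a ∈ Subgroup.closure ((D : Set L) ∪ {y}), ∀ b ∈ Subgroup.closure ((D : Set L) ∪ {y}),
          a * b = b * a := by
        intro a ha b hb
        have h3 : Subgroup.closure ((D : Set L) ∪ {y}) ≤
            Subgroup.centralizer ((D : Set L) ∪ {y}) := by
          rw [Subgroup.closure_le]
          rintro u (hu | hu)
          · rw [SetLike.mem_coe, Subgroup.mem_centralizer_iff]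
            rintro v (hv | hv)
            · exact hDS v hv u hu
            · rw [Set.mem_singleton_iff.mp hv]
              exact hcon u hu
          · rw [Set.mem_singleton_iff.mp hu, SetLike.mem_coe, Subgroup.mem_centralizer_iff]
            rintro v (hv | hv)
            · exact (hcon v hv).symm
            · rw [Set.mem_singleton_iff.mp hv]
        have h4 : Subgroup.closure ((D : Set L) ∪ {y}) ≤
            Subgroup.centralizer (Subgroup.closure ((D : Set L) ∪ {y}) : Set L) := by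
          rw [Subgroup.closure_le]
          intro u hu
          rw [SetLike.mem_coe, Subgroup.mem_centralizer_iff]
          intro v hv
          exact (Subgroup.mem_centralizer_iff.mp (h3 hv) u hu).symm
        exact (Subgroup.mem_centralizer_iff.mp (h4 ha) b hb).symm
      exact hcl
    have h2 : D ≤ Subgroup.closure ((D : Set L) ∪ {y}) := fun d hd => Subgroup.subset_closure (Or.inl hd)
    have h3 := hDmax h1 h2
    exact hyD (h3 (Subgroup.subset_closure (Or.inr rfl)))
  obtain ⟨d, hd, hne⟩ := hnc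
  refine ⟨D.map L.subtype, Subgroup.map_subtype_le _, ?_, y, y.2, ?_, d, ⟨d, hd, rfl⟩, ?_⟩
  · rintro _ ⟨a, ha, rfl⟩ _ ⟨b, hb, rfl⟩
    exact congrArg Subtype.val (hDS a ha b hb)
  · rintro _ ⟨a, ha, rfl⟩
    exact ⟨y * a * y⁻¹, (Subgroup.mem_normalizer_iff.mp hyN a).mp ha, rfl⟩
  · intro h
    exact hne (Subtype.ext h)

variable {F : Type*} [Field F] {V : Type*} [AddCommGroup V] [Module F V] [FiniteDimensional F V]
  {K : Type*} [Group K] [Finite K] {t : ℕ}

/-- small `t`-elements -/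
def Small (ρ : Representation F K V) (t : ℕ) (z : K) : Prop := (∃ k : ℕ, z ^ t ^ k = 1) ∧ rk ρ z ≤ t - 1

/-- the primes under consideration -/
def Pi0 (F : Type*) [Field F] : Set ℕ := {r | Odd r ∧ (r : F) ≠ 0}

theorem two_notMem_Pi0 : 2 ∉ Pi0 F := fun h => absurd h.1 (by decide)

theorem piN_Pi0 {n : ℕ} (hn : n ≠ 0) (h : PiN (Pi0 F) n) : Odd n ∧ (n : F) ≠ 0 := by
  induction n using Nat.recOnMul with
  | zero => exact absurd rfl hn
  | one => exact ⟨odd_one, by simp⟩
  | prime p hp => exact h p hp dvd_rfl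
  | mul a b ha hb =>
    have ha0 : a ≠ 0 := by rintro rfl; simp at hn
    have hb0 : b ≠ 0 := by rintro rfl; simp at hn
    obtain ⟨h1, h2⟩ := ha ha0 (h.of_dvd (dvd_mul_right a b))
    obtain ⟨h3, h4⟩ := hb hb0 (h.of_dvd (dvd_mul_left b a))
    exact ⟨h1.mul h3, by rw [Nat.cast_mul]; exact mul_ne_zero h2 h4⟩

theorem piN_of_pgroup {t : ℕ} (ht : t.Prime) (hto : Odd t) (htF : (t : F) ≠ 0) {L : Subgroup K}
    (h : IsPGroup t L) : PiN (Pi0 F) (Nat.card L) := by
  have := Fact.mk ht
  obtain ⟨n, hn⟩ := IsPGroup.iff_card.mp h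
  intro r hr hd
  rw [hn] at hd
  have := (Nat.prime_dvd_prime_iff_eq hr ht).mp (hr.dvd_of_dvd_pow hd)
  rw [this]
  exact ⟨hto, htF⟩

/-- a representation preserving a nondegenerate form -/
structure FRep (ρ : Representation F K V) (f : V →ₗ[F] V →ₗ[F] F) : Prop where
  inj : Function.Injective ρ
  iso : ∀ g u v, f (ρ g u) (ρ g v) = f u v
  nd : ∀ x, (∀ y, f y x = 0) → x = 0

variable {ρ : Representation F K V} {f : V →ₗ[F] V →ₗ[F] F}

/-- `t`-groups with a small commutator space are abelian -/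
theorem FRep.comm (h : FRep ρ f) (ht : t.Prime) (hto : Odd t) (htF : (t : F) ≠ 0) {L : Subgroup K}
    (hL : IsPGroup t L) (hb : finrank F (CV ρ L) < 2 * t) : ∀ a ∈ L, ∀ b ∈ L, a * b = b * a := by
  have htf := Fact.mk ht
  by_contra hcon
  obtain ⟨D, hDL, hab, y, hy, hn, d, hd, hne⟩ := exists_abelian_moved hL.isNilpotent hcon
  have hD := piN_Pi0 Nat.card_pos.ne' (piN_of_pgroup (F := F) ht hto htF (hL.to_le hDL))
  have hy' : ∃ k : ℕ, y ^ t ^ k = 1 := by
    obtain ⟨k, hk⟩ := hL ⟨y, hy⟩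
    exact ⟨k, congrArg Subtype.val hk⟩
  have h1 := weights_form ρ ht hto hy' hD.1 hD.2 hab hn ⟨d, hd, fun h0 => hne (h.inj h0)⟩ f h.iso h.nd
  have h2 := Submodule.finrank_mono (CV_mono ρ hDL)
  omega

/-- `t`-elements of `L` centralise the `r`-subgroups which they normalise -/
theorem FRep.cenH (h : FRep ρ f) (ht : t.Prime) (hto : Odd t) {L : Subgroup K}
    (hb : finrank F (CV ρ L) ≤ 2 * (t - 1)) (hL : PiN (Pi0 F) (Nat.card L)) : CenH t L := by
  classical
  intro y hy r hrp hrt R hR hn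
  by_contra hc
  have hrf : Fact r.Prime := ⟨hrp⟩
  let B : Subgroup K := R.map L.subtype
  have hB : ∀ d ∈ B, ∃ k : ℕ, d ^ r ^ k = 1 := by
    rintro _ ⟨x, hx, rfl⟩
    obtain ⟨k, hk⟩ := hR ⟨x, hx⟩
    exact ⟨k, congrArg (fun z : R => ((z : L) : K)) hk⟩
  have hy' : ∃ k : ℕ, (y : K) ^ t ^ k = 1 := by
    obtain ⟨k, hk⟩ := hy
    exact ⟨k, congrArg Subtype.val hk⟩
  have hn' : Nrm (y : K) B := by
    rintro _ ⟨x, hx, rfl⟩
    exact ⟨_, hn x hx, rfl⟩
  have hc' : ¬ Cen (y : K) B := by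
    intro h
    apply hc
    intro d hd
    exact Subtype.ext (h d ⟨d, hd, rfl⟩)
  obtain ⟨D, hDB, hD⟩ := exists_minD hrp ht hrt hB hy' hn' hc'
  have hDL : D ≤ L := hDB.trans (Subgroup.map_subtype_le _)
  have hDb : finrank F (CV ρ D) ≤ 2 * (t - 1) :=
    (Submodule.finrank_mono (CV_mono ρ hDL)).trans hb
  have ht2 := ht.two_le
  have hDπ : PiN (Pi0 F) (Nat.card D) := hL.of_dvd (Subgroup.card_dvd_of_le hDL)
  have hDo := piN_Pi0 Nat.card_pos.ne' hDπ
  have hDr : r ∈ Pi0 F := by
    refine hDπ r hrp ?_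
    have h1 : IsPGroup r D := hD.isPGroup
    obtain ⟨n, hn⟩ := IsPGroup.iff_card.mp h1
    rw [hn]
    refine dvd_pow_self r ?_
    rintro rfl
    rw [pow_zero, Subgroup.card_eq_one] at hn
    apply hD.ncen
    intro d hd
    rw [hn, Subgroup.mem_bot] at hd
    rw [hd, mul_one, one_mul]
  by_cases hab : ∀ a ∈ D, ∀ b ∈ D, a * b = b * a
  · obtain ⟨d, hd, hne⟩ : ∃ d ∈ D, (y : K) * d ≠ d * y := by
      by_contra hcon
      push Not at hcon
      exact hD.ncen hcon
    have h1 := weights_form ρ ht hto hy' hDo.1 hDo.2 hab hD.nrm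
      ⟨d, hd, fun h0 => hne (h.inj h0)⟩ f h.iso h.nd
    omega
  · push Not at hab
    have h1 : r ≠ 2 := by
      rintro rfl
      exact absurd hDr.1 (by decide)
    have h2 : t ≠ 2 := by
      rintro rfl
      exact absurd hto (by decide)
    have := Cfsg.Agent.H167.OP.beta ρ h.inj hD h1 h2 hDr.2 hab
    change 2 * t - 1 ≤ finrank F (CV ρ D) at this
    omega

theorem finrank_CV_two (ρ : Representation F K V) (x z : K) :
    finrank F (CV ρ (Subgroup.closure {x, z})) ≤ rk ρ x + rk ρ z := by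
  have h1 : CV ρ (Subgroup.closure {x, z}) ≤
      LinearMap.range (ρ x - 1) ⊔ LinearMap.range (ρ z - 1) := by
    refine CV_closure_le ?_
    rintro s (rfl | hs)
    · exact le_sup_left
    · rw [Set.mem_singleton_iff] at hs
      rw [hs]
      exact le_sup_right
  exact (Submodule.finrank_mono h1).trans (Submodule.finrank_add_le_finrank_add_finrank _ _)

/-- **the group generated by two small `t`-elements** -/
theorem FRep.isPGroup_pair (h : FRep ρ f) (ht : t.Prime) (hto : Odd t) {x z : K} (hx : Small ρ t x)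
    (hz : Small ρ t z) (hL : PiN (Pi0 F) (Nat.card (Subgroup.closure {x, z} : Subgroup K))) :
    IsPGroup t (Subgroup.closure {x, z} : Subgroup K) := by
  classical
  have htf : Fact t.Prime := ⟨ht⟩
  set L : Subgroup K := Subgroup.closure {x, z} with hLdef
  have hC : CenH t L := by
    refine h.cenH ht hto ?_ hL
    refine (finrank_CV_two ρ x z).trans ?_
    have := hx.2
    have := hz.2
    omega
  have hsolL : Group.IsSolvable L := solvable_of_pi two_notMem_Pi0 hL
  have hgen : Subgroup.closure {x : L | ∃ k : ℕ, x ^ t ^ k = 1} = ⊤ := by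
    rw [eq_top_iff, ← Subgroup.closure_closure_coe_preimage (k := ({x, z} : Set K))]
    apply Subgroup.closure_mono
    rintro ⟨w, hw⟩ hwm
    rcases hwm with h | h
    · obtain ⟨k, hk⟩ := hx.1
      have h' : w = x := h
      exact ⟨k, Subtype.ext (show w ^ t ^ k = 1 by rw [h', hk])⟩
    · obtain ⟨k, hk⟩ := hz.1
      have h' : w = z := h
      exact ⟨k, Subtype.ext (show w ^ t ^ k = 1 by rw [h', hk])⟩
  exact isPGroup_of_cenH hsolL hC hgen

theorem Small.conj {z : K} (hz : Small ρ t z) (g : K) : Small ρ t (g * z * g⁻¹) := by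
  obtain ⟨⟨k, hk⟩, h2⟩ := hz
  exact ⟨⟨k, by rw [conj_pow, hk, mul_one, mul_inv_cancel]⟩, (rk_conj_le ρ g z).trans h2⟩

/-- small elements lie in all Sylow `t`-subgroups -/
theorem FRep.mem_sylow (h : FRep ρ f) (ht : t.Prime) (hto : Odd t) {H : Subgroup K}
    (hH : PiN (Pi0 F) (Nat.card H)) (T : Sylow t H) {x : K} (hx : Small ρ t x) (hxH : x ∈ H) :
    (⟨x, hxH⟩ : H) ∈ (T : Subgroup H) := by
  have htf : Fact t.Prime := ⟨ht⟩
  exact mem_sylow_of_set (Z := {z | Small ρ t z}) (π := Pi0 F) (fun g z hz => hz.conj g)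
    (fun x hx z hz hL => h.isPGroup_pair ht hto hx hz hL) hH T hx hxH

/-- small elements of a `π`-group commute -/
theorem FRep.comm_small (h : FRep ρ f) (ht : t.Prime) (hto : Odd t) (htF : (t : F) ≠ 0) {H : Subgroup K}
    (hH : PiN (Pi0 F) (Nat.card H)) {x z : K} (hx : Small ρ t x) (hxH : x ∈ H) (hz : Small ρ t z)
    (hzH : z ∈ H) : x * z = z * x := by
  have hle : (Subgroup.closure {x, z} : Subgroup K) ≤ H := by
    rw [Subgroup.closure_le]
    rintro s (rfl | hs)
    · exact hxH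
    · rw [Set.mem_singleton_iff] at hs
      rw [hs]
      exact hzH
  have h1 := h.isPGroup_pair ht hto hx hz (hH.of_dvd (Subgroup.card_dvd_of_le hle))
  refine h.comm ht hto htF h1 ?_ x (Subgroup.subset_closure (Or.inl rfl)) z
    (Subgroup.subset_closure (Or.inr rfl))
  have h2 := finrank_CV_two ρ x z
  have h3 := hx.2
  have h4 := hz.2
  have := ht.two_le
  omega

end Cfsg.Agent.H572.RV
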