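import Cfsg.Agent.H572.RV.Cen

/-!
# Full isometry groups: gluing of isometries; parts of small elements (helper572)
-/

set_option autoImplicit false
set_option linter.unusedSectionVars false

namespace Cfsg.Agent.H572.RV

open Module Cfsg.Agent.H167.OP Cfsg.Agent.H170.HL Cfsg.Agent.H988.CPi Cfsg.Agent.H560.HallKey
  Cfsg.Agent.H553.OddHall

/-- commuting `t`-elements generate a `t`-group -/
theorem isPGroup_closure {K : Type*} [Group K] {t : ℕ} {S : Set K}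
    (hcomm : ∀ a ∈ S, ∀ b ∈ S, a * b = b * a) (hS : ∀ a ∈ S, ∃ k : ℕ, a ^ t ^ k = 1) :
    (∀ a ∈ Subgroup.closure S, ∀ b ∈ Subgroup.closure S, a * b = b * a) ∧
      IsPGroup t (Subgroup.closure S) := by
  have h1 : Subgroup.closure S ≤ Subgroup.centralizer S := by
    rw [Subgroup.closure_le]
    intro a ha
    rw [SetLike.mem_coe, Subgroup.mem_centralizer_iff]
    exact fun b hb => hcomm b hb a ha
  have h2 : Subgroup.closure S ≤ Subgroup.centralizer (Subgroup.closure S : Set K) := by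
    rw [Subgroup.closure_le]
    intro a ha
    rw [SetLike.mem_coe, Subgroup.mem_centralizer_iff]
    intro b hb
    exact (Subgroup.mem_centralizer_iff.mp (h1 hb) a ha).symm
  have h3 : ∀ a ∈ Subgroup.closure S, ∀ b ∈ Subgroup.closure S, a * b = b * a := fun a ha b hb =>
    (Subgroup.mem_centralizer_iff.mp (h2 ha) b hb).symm
  refine ⟨h3, ?_⟩
  rintro ⟨x, hx⟩
  suffices h : ∃ k : ℕ, x ^ t ^ k = 1 by
    obtain ⟨k, hk⟩ := h
    exact ⟨k, Subtype.ext hk⟩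
  induction hx using Subgroup.closure_induction with
  | mem x hx => exact hS x hx
  | one => exact ⟨0, by simp⟩
  | mul a b ha hb iha ihb =>
    obtain ⟨i, hi⟩ := iha
    obtain ⟨j, hj⟩ := ihb
    refine ⟨i + j, ?_⟩
    have hc : Commute a b := h3 a ha b hb
    rw [hc.mul_pow, pow_add, pow_mul, hi, one_pow, one_mul, mul_comm, pow_mul, hj, one_pow]
  | inv a _ ih =>
    obtain ⟨k, hk⟩ := ih
    exact ⟨k, by rw [inv_pow, hk, inv_one]⟩

variable {F : Type*} [Field F] [Finite F] {V : Type*} [AddCommGroup V] [Module F V] [Finite V]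
  [FiniteDimensional F V] {K : Type*} [Group K] [Finite K] {t : ℕ}

/-- a full isometry group -/
structure IsoG (ρ : Representation F K V) (f : V →ₗ[F] V →ₗ[F] F) (Q : V → F) : Prop extends
    FRep ρ f where
  isoQ : ∀ g v, Q (ρ g v) = Q v
  sym : ∃ ε : F, ε * ε = 1 ∧ ∀ x y, f x y = ε * f y x
  addQ : ∀ x y, f x y = 0 → Q (x + y) = Q x + Q y
  full : ∀ A : Module.End F V, (∀ u v, f (A u) (A v) = f u v) → (∀ v, Q (A v) = Q v) → ∃ k, ρ k = A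

/-- nondegenerate subspaces -/
def ND (f : V →ₗ[F] V →ₗ[F] F) (U : Submodule F V) : Prop := ∀ u ∈ U, (∀ x ∈ U, f x u = 0) → u = 0

variable {ρ : Representation F K V} {f : V →ₗ[F] V →ₗ[F] F} {Q : V → F} {U U₁ U₂ : Submodule F V}

theorem IsoG.refl (h : IsoG ρ f Q) (x y : V) (hxy : f x y = 0) : f y x = 0 := by
  obtain ⟨ε, -, h1⟩ := h.sym
  rw [h1, hxy, mul_zero]

theorem decomp (hU : ND f U) (v : V) : ∃ u ∈ U, ∃ w ∈ Orth f U, v = u + w := by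
  have : v ∈ U ⊔ Orth f U := by rw [(isCompl_Orth f U hU).sup_eq_top]; trivial
  rw [Submodule.mem_sup] at this
  obtain ⟨u, hu, w, hw, rfl⟩ := this
  exact ⟨u, hu, w, hw, rfl⟩

/-- **gluing three isometries** -/
theorem IsoG.glue3 (h : IsoG ρ f Q) (hU₁ : ND f U₁) (hU₂ : ND f U₂)
    (h12 : ∀ u ∈ U₁, ∀ v ∈ U₂, f u v = 0) (g₁ g₂ g₃ : K)
    (o12 : ∀ u ∈ U₁, ∀ v ∈ U₂, f (ρ g₁ u) (ρ g₂ v) = 0)
    (o13 : ∀ u ∈ U₁, ∀ w ∈ Orth f U₁ ⊓ Orth f U₂, f (ρ g₁ u) (ρ g₃ w) = 0)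
    (o23 : ∀ u ∈ U₂, ∀ w ∈ Orth f U₁ ⊓ Orth f U₂, f (ρ g₂ u) (ρ g₃ w) = 0) :
    ∃ k : K, (∀ u ∈ U₁, ρ k u = ρ g₁ u) ∧ (∀ u ∈ U₂, ρ k u = ρ g₂ u) ∧
      ∀ w ∈ Orth f U₁ ⊓ Orth f U₂, ρ k w = ρ g₃ w := by
  have hc1 := isCompl_Orth f U₁ hU₁
  have hc2 := isCompl_Orth f U₂ hU₂
  let B : Module.End F V := LinearMap.ofIsCompl hc2 (ρ g₂ ∘ₗ U₂.subtype) (ρ g₃ ∘ₗ (Orth f U₂).subtype)
  have hB1 : ∀ u ∈ U₂, B u = ρ g₂ u := fun u hu => LinearMap.ofIsCompl_apply_left hc2 ⟨u, hu⟩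
  have hB2 : ∀ w ∈ Orth f U₂, B w = ρ g₃ w := fun u hu => LinearMap.ofIsCompl_apply_right hc2 ⟨u, hu⟩
  let A : Module.End F V := LinearMap.ofIsCompl hc1 (ρ g₁ ∘ₗ U₁.subtype) (B ∘ₗ (Orth f U₁).subtype)
  have hA1 : ∀ u ∈ U₁, A u = ρ g₁ u := fun u hu => LinearMap.ofIsCompl_apply_left hc1 ⟨u, hu⟩
  have hA2 : ∀ w ∈ Orth f U₁, A w = B w := fun u hu => LinearMap.ofIsCompl_apply_right hc1 ⟨u, hu⟩
  have hU2 : ∀ u ∈ U₂, u ∈ Orth f U₁ := fun u hu x hx => h12 x hx u hu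
  have hdec : ∀ v, ∃ a ∈ U₁, ∃ b ∈ U₂, ∃ c ∈ Orth f U₁ ⊓ Orth f U₂, v = a + (b + c) := by
    intro v
    obtain ⟨a, ha, w, hw, rfl⟩ := decomp hU₁ v
    obtain ⟨b, hb, c, hc, rfl⟩ := decomp hU₂ w
    refine ⟨a, ha, b, hb, c, ⟨?_, hc⟩, rfl⟩
    have := (Orth f U₁).sub_mem hw (hU2 b hb)
    rwa [add_sub_cancel_left] at this
  have hA : ∀ a ∈ U₁, ∀ b ∈ U₂, ∀ c ∈ Orth f U₁ ⊓ Orth f U₂,
      A (a + (b + c)) = ρ g₁ a + (ρ g₂ b + ρ g₃ c) := by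
    intro a ha b hb c hc
    rw [map_add, map_add, hA1 a ha, hA2 b (hU2 b hb), hB1 b hb, hA2 c hc.1, hB2 c hc.2]
  have hAf : ∀ u v, f (A u) (A v) = f u v := by
    intro u v
    obtain ⟨a, ha, b, hb, c, hc, rfl⟩ := hdec u
    obtain ⟨a', ha', b', hb', c', hc', rfl⟩ := hdec v
    rw [hA a ha b hb c hc, hA a' ha' b' hb' c' hc']
    simp only [map_add, LinearMap.add_apply]
    rw [h.iso, h.iso, h.iso, o12 a ha b' hb', o13 a ha c' hc', h.refl _ _ (o12 a' ha' b hb),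
      o23 b hb c' hc', h.refl _ _ (o13 a' ha' c hc), h.refl _ _ (o23 b' hb' c hc),
      h12 a ha b' hb', hc'.1 a ha, h.refl _ _ (h12 a' ha' b hb), hc'.2 b hb,
      h.refl _ _ (hc.1 a' ha'), h.refl _ _ (hc.2 b' hb')]
  have hAQ : ∀ v, Q (A v) = Q v := by
    intro v
    obtain ⟨a, ha, b, hb, c, hc, rfl⟩ := hdec v
    have e1 : f (ρ g₁ a) (ρ g₂ b + ρ g₃ c) = 0 := by rw [map_add, o12 a ha b hb, o13 a ha c hc, add_zero]
    have e2 : f a (b + c) = 0 := by rw [map_add, h12 a ha b hb, hc.1 a ha, add_zero]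
    rw [hA a ha b hb c hc, h.addQ _ _ e1, h.addQ _ _ e2, h.addQ _ _ (o23 b hb c hc), h.addQ _ _ (hc.2 b hb),
      h.isoQ, h.isoQ, h.isoQ]
  obtain ⟨k, hk⟩ := h.full A hAf hAQ
  refine ⟨k, fun u hu => by rw [hk, hA1 u hu], fun u hu => by rw [hk, hA2 u (hU2 u hu), hB1 u hu],
    fun w hw => by rw [hk, hA2 w hw.1, hB2 w hw.2]⟩

/-- `k` is the part of `x` on `U` -/
def IsPart (ρ : Representation F K V) (f : V →ₗ[F] V →ₗ[F] F) (U : Submodule F V) (x k : K) : Prop :=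
  (∀ u ∈ U, ρ k u = ρ x u) ∧ ∀ w ∈ Orth f U, ρ k w = w

theorem IsoG.exists_part (h : IsoG ρ f Q) (hU : ND f U) {x : K} (hx : ∀ u ∈ U, ρ x u ∈ U) :
    ∃ k, IsPart ρ f U x k := by
  have hbot : ND f (⊥ : Submodule F V) := fun u hu _ => by rwa [Submodule.mem_bot] at hu
  have hO : Orth f (⊥ : Submodule F V) = ⊤ := by
    rw [eq_top_iff]
    intro v _ u hu
    rw [Submodule.mem_bot] at hu
    rw [hu, map_zero, LinearMap.zero_apply]
  obtain ⟨k, h1, -, h3⟩ := h.glue3 hU hbot (fun u _ v hv => by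
      rw [Submodule.mem_bot] at hv
      rw [hv, map_zero]) x 1 1 (fun u _ v hv => by
      rw [Submodule.mem_bot] at hv
      rw [hv, map_zero, map_zero]) (fun u hu w hw => by
      rw [one_ap]
      exact hw.1 _ (hx u hu)) (fun u hu w _ => by
      rw [Submodule.mem_bot] at hu
      rw [hu, map_zero, map_zero, LinearMap.zero_apply])
  refine ⟨k, h1, fun w hw => ?_⟩
  rw [h3 w ⟨hw, by rw [hO]; trivial⟩, one_ap]

theorem eq_of_parts (hinj : Function.Injective ρ) (hU : ND f U) {k k' : K}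
    (h1 : ∀ u ∈ U, ρ k u = ρ k' u) (h2 : ∀ w ∈ Orth f U, ρ k w = ρ k' w) : k = k' := by
  apply hinj
  apply LinearMap.ext
  intro v
  obtain ⟨u, hu, w, hw, rfl⟩ := decomp hU v
  rw [map_add, map_add, h1 u hu, h2 w hw]

theorem IsPart.unique (hinj : Function.Injective ρ) (hU : ND f U) {x k k' : K} (hk : IsPart ρ f U x k)
    (hk' : IsPart ρ f U x k') : k = k' :=
  eq_of_parts hinj hU (fun u hu => by rw [hk.1 u hu, hk'.1 u hu]) (fun w hw => by rw [hk.2 w hw, hk'.2 w hw])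

theorem Orth_map (h : IsoG ρ f Q) (g : K) (U : Submodule F V) :
    Orth f (U.map (ρ g)) = (Orth f U).map (ρ g) := by
  ext w
  constructor
  · intro hw
    refine ⟨ρ g⁻¹ w, fun u hu => ?_, ap_inv ρ g w⟩
    have h1 := hw (ρ g u) ⟨u, hu, rfl⟩
    have h2 := h.iso g u (ρ g⁻¹ w)
    rw [ap_inv] at h2
    rw [← h2, h1]
  · rintro ⟨w, hw, rfl⟩ _ ⟨u, hu, rfl⟩
    rw [h.iso]
    exact hw u hu

theorem IsPart.conj (h : IsoG ρ f Q) {x k : K} (hk : IsPart ρ f U x k) (g : K) :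
    IsPart ρ f (U.map (ρ g)) (g * x * g⁻¹) (g * k * g⁻¹) := by
  constructor
  · rintro _ ⟨u, hu, rfl⟩
    have e : ∀ y : K, ρ (g * y * g⁻¹) (ρ g u) = ρ g (ρ y u) := by
      intro y
      rw [mul_ap, mul_ap, inv_ap]
    rw [e, e, hk.1 u hu]
  · rw [Orth_map h]
    rintro _ ⟨u, hu, rfl⟩
    rw [mul_ap, mul_ap, inv_ap, hk.2 u hu]

theorem IsPart.mul {x k x' k' : K} (hk : IsPart ρ f U x k) (hk' : IsPart ρ f U x' k')
    (hx' : ∀ u ∈ U, ρ x' u ∈ U) : IsPart ρ f U (x * x') (k * k') := by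
  constructor
  · intro u hu
    rw [mul_ap, mul_ap, hk'.1 u hu, hk.1 _ (hx' u hu)]
  · intro w hw
    rw [mul_ap, hk'.2 w hw, hk.2 w hw]

theorem IsPart.one : IsPart ρ f U 1 1 := ⟨fun _ _ => rfl, fun w _ => one_ap ρ w⟩

theorem IsPart.pow {x k : K} (hk : IsPart ρ f U x k) (hx : ∀ u ∈ U, ρ x u ∈ U) (n : ℕ) :
    IsPart ρ f U (x ^ n) (k ^ n) := by
  induction n with
  | zero => rw [pow_zero, pow_zero]; exact IsPart.one
  | succ n ih =>
    rw [pow_succ, pow_succ]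
    exact ih.mul hk hx

/-- the support -/
noncomputable def sp (ρ : Representation F K V) (z : K) : Submodule F V := LinearMap.range (ρ z - 1)

theorem mem_sp {z : K} (v : V) : ρ z v - v ∈ sp ρ z := ⟨v, rfl⟩

theorem IsPart.sp_le (hU : ND f U) {x k : K} (hk : IsPart ρ f U x k) (hx : ∀ u ∈ U, ρ x u ∈ U) :
    sp ρ k ≤ U := by
  rintro _ ⟨v, rfl⟩
  obtain ⟨u, hu, w, hw, rfl⟩ := decomp hU v
  have h1 : (ρ k - 1) (u + w) = ρ x u - u := by
    show ρ k (u + w) - (u + w) = _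
    rw [map_add, hk.1 u hu, hk.2 w hw]
    abel
  rw [h1]
  exact U.sub_mem (hx u hu) hu

theorem IsPart.sp_le' (hU : ND f U) {x k : K} (hk : IsPart ρ f U x k) : sp ρ k ≤ sp ρ x := by
  rintro _ ⟨v, rfl⟩
  obtain ⟨u, hu, w, hw, rfl⟩ := decomp hU v
  have h1 : (ρ k - 1) (u + w) = ρ x u - u := by
    show ρ k (u + w) - (u + w) = _
    rw [map_add, hk.1 u hu, hk.2 w hw]
    abel
  rw [h1]
  exact mem_sp u

theorem IsPart.tel (h : IsoG ρ f Q) (hU : ND f U) {x k : K} (hk : IsPart ρ f U x k)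
    (hx : ∀ u ∈ U, ρ x u ∈ U) (hxt : ∃ m : ℕ, x ^ t ^ m = 1) : ∃ m : ℕ, k ^ t ^ m = 1 := by
  obtain ⟨m, hm⟩ := hxt
  refine ⟨m, ?_⟩
  have h1 := hk.pow hx (t ^ m)
  rw [hm] at h1
  exact h1.unique h.inj hU IsPart.one

theorem sp_conj (g z : K) : sp ρ (g * z * g⁻¹) = (sp ρ z).map (ρ g) := by
  have key : ∀ g z : K, (sp ρ z).map (ρ g) ≤ sp ρ (g * z * g⁻¹) := by
    rintro g z _ ⟨_, ⟨v, rfl⟩, rfl⟩
    refine ⟨ρ g v, ?_⟩
    show ρ (g * z * g⁻¹) (ρ g v) - ρ g v = ρ g (ρ z v - v)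
    rw [mul_ap, mul_ap, inv_ap, map_sub]
  apply le_antisymm _ (key g z)
  intro w hw
  have h1 := key g⁻¹ (g * z * g⁻¹) ⟨w, hw, rfl⟩
  have h2 : g⁻¹ * (g * z * g⁻¹) * g⁻¹⁻¹ = z := by group
  rw [h2] at h1
  exact ⟨_, h1, ap_inv ρ g w⟩

theorem map_sp_of_comm {g z : K} (hgz : g * z = z * g) : (sp ρ z).map (ρ g) = sp ρ z := by
  rw [← sp_conj, hgz, mul_inv_cancel_right]

theorem map_mem_of_comm {g z : K} (hgz : g * z = z * g) {u : V} (hu : u ∈ sp ρ z) : ρ g u ∈ sp ρ z := by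
  rw [← map_sp_of_comm hgz]
  exact ⟨u, hu, rfl⟩

theorem sp_eq_bot (hinj : Function.Injective ρ) {z : K} : sp ρ z = ⊥ ↔ z = 1 := by
  rw [sp, LinearMap.range_eq_bot, sub_eq_zero]
  constructor
  · intro h
    exact hinj (by rw [h, map_one])
  · intro h
    rw [h, map_one]

theorem nd_sp (h : IsoG ρ f Q) (htF : (t : F) ≠ 0) {z : K} (hz : ∃ k : ℕ, z ^ t ^ k = 1) : ND f (sp ρ z) := by
  obtain ⟨k, hk⟩ := hz
  intro u hu hx
  refine nondeg_range f h.nd (t := t ^ k) (y := ρ z) ?_ ?_ (h.iso z) hu hx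
  · rw [Nat.cast_pow]; exact pow_ne_zero _ htF
  · rw [← map_pow, hk, map_one]

theorem mem_Orth_sp (h : IsoG ρ f Q) {z : K} {w : V} : w ∈ Orth f (sp ρ z) ↔ ρ z w = w := by
  constructor
  · intro hw
    rw [← sub_eq_zero]
    apply h.nd
    intro v
    have h1 := hw _ (mem_sp (ρ := ρ) (z := z) (ρ z⁻¹ v))
    have h2 := h.iso z (ρ z⁻¹ v) w
    rw [ap_inv] at h1 h2
    rw [map_sub, LinearMap.sub_apply] at h1
    rw [map_sub, h2, sub_eq_zero]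
    exact (sub_eq_zero.mp h1).symm
  · rintro hw _ ⟨v, rfl⟩
    show f (ρ z v - v) w = 0
    rw [map_sub, LinearMap.sub_apply]
    have h1 := h.iso z v w
    rw [hw] at h1
    rw [h1, sub_self]

/-- an element commuting with `x` and `z` commutes with the part of `x` on `[V, z]` -/
theorem IsPart.comm (h : IsoG ρ f Q) (htF : (t : F) ≠ 0) {x z k y : K} (hz : ∃ k : ℕ, z ^ t ^ k = 1)
    (hk : IsPart ρ f (sp ρ z) x k) (hyx : y * x = x * y) (hyz : y * z = z * y) : y * k = k * y := by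
  have h1 := hk.conj h y
  rw [map_sp_of_comm hyz, hyx, mul_inv_cancel_right] at h1
  have h2 := h1.unique h.inj (nd_sp h htF hz) hk
  calc y * k = (y * k * y⁻¹) * y := by group
    _ = k * y := by rw [h2]

/-- `t`-subgroups normalised by `H` lie in `H` -/
def MX (t : ℕ) (H : Subgroup K) : Prop :=
  ∀ R : Subgroup K, IsPGroup t R → H ≤ Subgroup.normalizer (R : Set K) → R ≤ H

/-- the small elements of `H` -/
def Zs (ρ : Representation F K V) (t : ℕ) (H : Subgroup K) : Set K := {z | z ∈ H ∧ Small ρ t z}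

theorem small_of_sp_le {k z : K} (hk : ∃ m : ℕ, k ^ t ^ m = 1) (hz : Small ρ t z) (hle : sp ρ k ≤ sp ρ z) :
    Small ρ t k := ⟨hk, (Submodule.finrank_mono hle).trans hz.2⟩

/-- **parts of small elements of `H` belong to `H`** -/
theorem IsoG.part_mem (h : IsoG ρ f Q) (ht : t.Prime) (hto : Odd t) (htF : (t : F) ≠ 0) {H : Subgroup K}
    (hH : PiN (Pi0 F) (Nat.card H)) (hMX : MX t H) {x z k : K} (hx : x ∈ Zs ρ t H) (hz : z ∈ Zs ρ t H)
    (hk : IsPart ρ f (sp ρ z) x k) : k ∈ Zs ρ t H := by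
  have hcomm : ∀ a ∈ Zs ρ t H, ∀ b ∈ Zs ρ t H, a * b = b * a := fun a ha b hb =>
    h.comm_small ht hto htF hH ha.2 ha.1 hb.2 hb.1
  let S : Set K := {k | ∃ x ∈ Zs ρ t H, ∃ z ∈ Zs ρ t H, IsPart ρ f (sp ρ z) x k}
  have hS1 : ∀ a ∈ S, ∀ b ∈ S, a * b = b * a := by
    rintro k ⟨x, hx, z, hz, hk⟩ k' ⟨x', hx', z', hz', hk'⟩
    have h1 : ∀ y ∈ Zs ρ t H, y * k = k * y := fun y hy =>
      hk.comm h htF hz.2.1 (hcomm y hy x hx) (hcomm y hy z hz)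
    exact hk'.comm h htF hz'.2.1 (h1 x' hx').symm (h1 z' hz').symm
  have hS2 : ∀ a ∈ S, ∃ k : ℕ, a ^ t ^ k = 1 := by
    rintro k ⟨x, hx, z, hz, hk⟩
    exact hk.tel h (nd_sp h htF hz.2.1) (fun u hu => map_mem_of_comm (hcomm x hx z hz) hu) hx.2.1
  have h1 := isPGroup_closure hS1 hS2
  have h2 : H ≤ Subgroup.normalizer ((Subgroup.closure S : Subgroup K) : Set K) := by
    refine le_normalizer_closure H S ?_
    rintro g hg k ⟨x, hx, z, hz, hk⟩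
    refine ⟨g * x * g⁻¹, ⟨H.mul_mem (H.mul_mem hg hx.1) (H.inv_mem hg), hx.2.conj g⟩,
      g * z * g⁻¹, ⟨H.mul_mem (H.mul_mem hg hz.1) (H.inv_mem hg), hz.2.conj g⟩, ?_⟩
    rw [sp_conj]
    exact hk.conj h g
  have h3 := hMX _ h1.2 h2
  have hkS : k ∈ S := ⟨x, hx, z, hz, hk⟩
  refine ⟨h3 (Subgroup.subset_closure hkS), small_of_sp_le (hS2 k hkS) hz.2 ?_⟩
  exact hk.sp_le (nd_sp h htF hz.2.1) (fun u hu => map_mem_of_comm (hcomm x hx z hz) hu)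

end Cfsg.Agent.H572.RV
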