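import Cfsg.Agent.H572.RV.SylC
import Cfsg.Agent.H553.HallPerm

/-!
# A Sylow subgroup which moves a block: the symmetric group on a class of blocks (helper572)
-/

set_option autoImplicit false
set_option linter.unusedSectionVars false

namespace Cfsg.Agent.H572.RV

open Module Cfsg Cfsg.Agent.H167.OP Cfsg.Agent.H170.HL Cfsg.Agent.H988.CPi Cfsg.Agent.H560.HallKey
  Cfsg.Agent.H553.OddHall

/-- Hall subgroups under surjective homomorphisms -/
theorem isPiHall_map {G G' : Type*} [Group G] [Group G'] [Finite G] {π : Set ℕ} {X : Subgroup G}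
    (hX : IsPiHall π X) (φ : G →* G') (hφ : Function.Surjective φ) : IsPiHall π (X.map φ) := by
  refine ⟨?_, ?_⟩
  · intro p hp hd
    exact hX.1 p hp (hd.trans (Subgroup.card_map_dvd X φ))
  · intro p hp hpπ hd
    refine hX.2 p hp hpπ (hd.trans ?_)
    exact Subgroup.index_map_dvd X hφ

theorem isPiHall_subgroupOf {G : Type*} [Group G] [Finite G] {π : Set ℕ} {X N : Subgroup G}
    (hX : IsPiHall π X) (hXN : X ≤ N) : IsPiHall π (X.subgroupOf N) := by
  refine ⟨?_, ?_⟩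
  · intro p hp hd
    rw [Nat.card_congr (Subgroup.subgroupOfEquivOfLe hXN).toEquiv] at hd
    exact hX.1 p hp hd
  · intro p hp hpπ hd
    exact hX.2 p hp hpπ (hd.trans (Subgroup.relIndex_dvd_index_of_le hXN))

variable {F : Type*} [Field F] [Finite F] {V : Type*} [AddCommGroup V] [Module F V] [Finite V]
  [FiniteDimensional F V] {K : Type*} [Group K] [Finite K] {t : ℕ}
  {ρ : Representation F K V} {f : V →ₗ[F] V →ₗ[F] F} {Q : V → F} {U U₁ U₂ : Submodule F V}
  {H T : Subgroup K}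

theorem map_map (g h : K) (U : Submodule F V) : (U.map (ρ h)).map (ρ g) = U.map (ρ (g * h)) := by
  rw [← Submodule.map_comp]
  congr 1
  rw [map_mul]
  rfl

theorem map_one' (U : Submodule F V) : U.map (ρ 1) = U := by
  ext v
  constructor
  · rintro ⟨u, hu, rfl⟩
    rw [one_ap]; exact hu
  · intro hv
    exact ⟨v, hv, one_ap ρ v⟩

/-- the class of a block -/
def Om (ρ : Representation F K V) (t : ℕ) (H : Subgroup K) (U₀ : Submodule F V) : Set (Submodule F V) :=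
  {U | U ∈ Bl ρ t H ∧ ∃ g : K, U₀.map (ρ g) = U}

/-- the stabiliser of the class -/
def St (ρ : Representation F K V) (t : ℕ) (H : Subgroup K) (U₀ : Submodule F V) : Subgroup K where
  carrier := {g | ∀ U ∈ Om ρ t H U₀, U.map (ρ g) ∈ Om ρ t H U₀}
  mul_mem' := fun {a b} ha hb U hU => by rw [← map_map]; exact ha _ (hb _ hU)
  one_mem' := fun U hU => by rw [map_one']; exact hU
  inv_mem' := fun {a} ha => by
    have key : ∀ n : ℕ, ∀ U ∈ Om ρ t H U₀, U.map (ρ (a ^ n)) ∈ Om ρ t H U₀ := by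
      intro n
      induction n with
      | zero => intro U hU; rw [pow_zero, map_one']; exact hU
      | succ n ih => intro U hU; rw [pow_succ', ← map_map]; exact ha _ (ih U hU)
    have h1 : a⁻¹ = a ^ (orderOf a - 1) := by
      rw [inv_eq_iff_mul_eq_one, ← pow_succ']
      have := orderOf_pos a
      rw [Nat.sub_add_cancel this, pow_orderOf_eq_one]
    rw [h1]
    exact key _

theorem H_le_St {U₀ : Submodule F V} : H ≤ St ρ t H U₀ := by
  rintro g hg U ⟨hU, a, rfl⟩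
  exact ⟨Bl_map hg hU, g * a, by rw [map_map]⟩

/-- the permutation action -/
def act (ρ : Representation F K V) (t : ℕ) (H : Subgroup K) (U₀ : Submodule F V) :
    St ρ t H U₀ →* Equiv.Perm (Om ρ t H U₀) where
  toFun g :=
    { toFun := fun U => ⟨(U : Submodule F V).map (ρ g), g.2 U U.2⟩
      invFun := fun U => ⟨(U : Submodule F V).map (ρ ((g⁻¹ : St ρ t H U₀) : K)), (g⁻¹).2 U U.2⟩
      left_inv := fun U => Subtype.ext (by
        show ((U : Submodule F V).map (ρ g)).map (ρ ((g : K)⁻¹)) = U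
        rw [map_map, inv_mul_cancel, map_one'])
      right_inv := fun U => Subtype.ext (by
        show ((U : Submodule F V).map (ρ ((g : K)⁻¹))).map (ρ g) = U
        rw [map_map, mul_inv_cancel, map_one']) }
  map_one' := Equiv.ext fun U => Subtype.ext (map_one' _)
  map_mul' := fun g h => Equiv.ext fun U => Subtype.ext (map_map _ _ _).symm

theorem act_apply {U₀ : Submodule F V} (g : St ρ t H U₀) (U : Om ρ t H U₀) :
    ((act ρ t H U₀ g U : Om ρ t H U₀) : Submodule F V) = (U : Submodule F V).map (ρ g) := rfl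

theorem Std.orth_of_bl (h : Std ρ f Q t H) (hU₁ : U₁ ∈ Bl ρ t H) (hU : U ∈ Bl ρ t H) (hne : U₁ ≠ U) :
    U ≤ Orth f U₁ := fun v hv u hu => h.bl_orth hU₁ hU hne u hu v hv

/-- swaps -/
theorem Std.exists_swap (h : Std ρ f Q t H) {U₀ : Submodule F V} (A B : Om ρ t H U₀) (hne : A ≠ B) :
    ∃ g : St ρ t H U₀, ∀ U : Om ρ t H U₀, act ρ t H U₀ g U =
      if U = A then B else if U = B then A else U := by
  classical
  obtain ⟨A, hA, a, ha⟩ := A
  obtain ⟨B, hB, b, hb⟩ := B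
  have hne' : A ≠ B := fun h0 => hne (Subtype.ext h0)
  -- `g A = B`
  set g := b * a⁻¹ with hg
  have hgA : A.map (ρ g) = B := by
    rw [← ha, map_map, hg, inv_mul_cancel_right, hb]
  have hgB : B.map (ρ g⁻¹) = A := by
    rw [← hgA, map_map, inv_mul_cancel, map_one']
  have hgA' : ∀ u ∈ A, ρ g u ∈ B := fun u hu => by rw [← hgA]; exact ⟨u, hu, rfl⟩
  have hgB' : ∀ u ∈ B, ρ g⁻¹ u ∈ A := fun u hu => by rw [← hgB]; exact ⟨u, hu, rfl⟩
  obtain ⟨k, h1, h2, h3⟩ := h.toIsoG.glue3 (h.nd_bl hA) (h.nd_bl hB) (h.bl_orth hA hB hne') g g⁻¹ 1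
    (fun u hu v hv => h.bl_orth hB hA hne'.symm _ (hgA' u hu) _ (hgB' v hv))
    (fun u hu w hw => by rw [one_ap]; exact hw.2 _ (hgA' u hu))
    (fun u hu w hw => by rw [one_ap]; exact hw.1 _ (hgB' u hu))
  have kA : A.map (ρ k) = B := by
    rw [← hgA]
    ext v
    constructor
    · rintro ⟨u, hu, rfl⟩; exact ⟨u, hu, (h1 u hu).symm⟩
    · rintro ⟨u, hu, rfl⟩; exact ⟨u, hu, h1 u hu⟩
  have kB : B.map (ρ k) = A := by
    rw [← hgB]
    ext v
    constructor
    · rintro ⟨u, hu, rfl⟩; exact ⟨u, hu, (h2 u hu).symm⟩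
    · rintro ⟨u, hu, rfl⟩; exact ⟨u, hu, h2 u hu⟩
  have kU : ∀ U ∈ Bl ρ t H, U ≠ A → U ≠ B → U.map (ρ k) = U := by
    intro U hU hUA hUB
    have h4 : ∀ u ∈ U, ρ k u = u := by
      intro u hu
      rw [h3 u ⟨h.orth_of_bl hA hU hUA.symm hu, h.orth_of_bl hB hU hUB.symm hu⟩, one_ap]
    ext v
    constructor
    · rintro ⟨u, hu, rfl⟩; rw [h4 u hu]; exact hu
    · intro hv; exact ⟨v, hv, h4 v hv⟩
  have hkS : k ∈ St ρ t H U₀ := by
    intro U hU
    by_cases hUA : U = A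
    · rw [hUA, kA]; exact ⟨hB, b, hb⟩
    · by_cases hUB : U = B
      · rw [hUB, kB]; exact ⟨hA, a, ha⟩
      · rw [kU U hU.1 hUA hUB]; exact hU
  refine ⟨⟨k, hkS⟩, fun U => Subtype.ext ?_⟩
  rw [act_apply]
  by_cases hUA : U = ⟨A, hA, a, ha⟩
  · rw [if_pos hUA, hUA]
    exact kA
  · rw [if_neg hUA]
    by_cases hUB : U = ⟨B, hB, b, hb⟩
    · rw [if_pos hUB, hUB]
      exact kB
    · rw [if_neg hUB]
      refine kU U U.2.1 (fun h0 => hUA (Subtype.ext h0)) (fun h0 => hUB (Subtype.ext h0))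

instance : Finite (Submodule F V) :=
  Finite.of_injective (fun U : Submodule F V => (U : Set V)) SetLike.coe_injective

theorem Std.act_surjective (h : Std ρ f Q t H) (U₀ : Submodule F V) :
    Function.Surjective (act ρ t H U₀) := by
  classical
  rw [← MonoidHom.range_eq_top, eq_top_iff, ← Equiv.Perm.closure_isSwap, Subgroup.closure_le]
  rintro σ ⟨A, B, hne, rfl⟩
  obtain ⟨g, hg⟩ := h.exists_swap A B hne
  refine ⟨g, Equiv.ext fun U => ?_⟩
  rw [hg U, Equiv.swap_apply_def]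

/-- **a Sylow subgroup which moves a block** -/
theorem SylT.perm (h : SylT ρ f Q t H T) {π : Set ℕ} (hH : IsPiHall π H) (h2 : 2 ∉ π) (htπ : t ∈ π)
    (hmv : ∃ x ∈ T, ∃ U ∈ Bl ρ t H, U.map (ρ x) ≠ U) {s : ℕ} (hs : s.Prime) (hsπ : s ∈ π) (hst : s < t) :
    False := by
  classical
  obtain ⟨x, hx, U₀, hU₀, hne⟩ := hmv
  set Ω := Om ρ t H U₀
  have hU₀Ω : U₀ ∈ Ω := ⟨hU₀, 1, map_one' U₀⟩
  have hxS : x ∈ St ρ t H U₀ := H_le_St (h.hTH hx)
  -- `t ≤ |Ω|`
  have ht : t ≤ Nat.card Ω := by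
    have h1 : act ρ t H U₀ ⟨x, hxS⟩ ≠ 1 := by
      intro h0
      have h1 := congrArg (fun σ : Equiv.Perm Ω => ((σ ⟨U₀, hU₀Ω⟩ : Ω) : Submodule F V)) h0
      exact hne h1
    obtain ⟨m, hm⟩ := h.hT ⟨x, hx⟩
    have hm' : x ^ t ^ m = 1 := congrArg Subtype.val hm
    have h2 : (act ρ t H U₀ ⟨x, hxS⟩) ^ t ^ m = 1 := by
      rw [← map_pow]
      have : (⟨x, hxS⟩ : St ρ t H U₀) ^ t ^ m = 1 := Subtype.ext hm'
      rw [this, map_one]
    have h3 : orderOf (act ρ t H U₀ ⟨x, hxS⟩) ∣ t ^ m := orderOf_dvd_of_pow_eq_one h2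
    obtain ⟨j, -, hj⟩ := (Nat.dvd_prime_pow h.ht).mp h3
    have hj0 : j ≠ 0 := by
      rintro rfl
      rw [pow_zero, orderOf_eq_one_iff] at hj
      exact h1 hj
    have h4 : t ∣ Nat.card (Equiv.Perm Ω) := by
      have h5 := dvd_pow_self t hj0
      rw [← hj] at h5
      exact h5.trans (orderOf_dvd_natCard _)
    have : Fintype Ω := Fintype.ofFinite _
    rw [Nat.card_eq_fintype_card, Fintype.card_perm, h.ht.dvd_factorial] at h4
    rwa [Nat.card_eq_fintype_card]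
  have h1 := isPiHall_map (isPiHall_subgroupOf hH (H_le_St (ρ := ρ) (t := t) (U₀ := U₀)))
    (act ρ t H U₀) (h.toStd.act_surjective U₀)
  have e : Equiv.Perm Ω ≃* Equiv.Perm (Fin (Nat.card Ω)) := (Finite.equivFin Ω).permCongrHom
  have h3 := isPiHall_map h1 e.toMonoidHom e.surjective
  have h5 := (Cfsg.Agent.S2536.result (Nat.card Ω) π ⟨s, t, hs, h.ht, hst.ne, hsπ, htπ, by omega, ht⟩
    ⟨2, Nat.prime_two, by have := hs.two_le; omega, h2⟩).mp ⟨_, h3⟩
  have h6 := hs.two_le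
  rcases h5 with ⟨_, h⟩ | ⟨_, h⟩
  · exact h2 ((h 2 Nat.prime_two (by omega)).mpr (by omega))
  · exact h2 ((h 2 Nat.prime_two (by omega)).mpr (Or.inl rfl))

end Cfsg.Agent.H572.RV
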