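import Cfsg.Agent.H572.RV.Blocks
import Cfsg.Agent.H170.HL.Forms

/-!
# A Sylow subgroup which fixes all blocks is generated by small elements (helper572)
-/

set_option autoImplicit false
set_option linter.unusedSectionVars false

namespace Cfsg.Agent.H572.RV

open Module Cfsg.Agent.H167.OP Cfsg.Agent.H170.HL Cfsg.Agent.H988.CPi Cfsg.Agent.H560.HallKey
  Cfsg.Agent.H553.OddHall

variable {F : Type*} [Field F] [Finite F] {V : Type*} [AddCommGroup V] [Module F V] [Finite V]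
  [FiniteDimensional F V] {K : Type*} [Group K] [Finite K] {t : ℕ}
  {ρ : Representation F K V} {f : V →ₗ[F] V →ₗ[F] F} {Q : V → F} {U U₁ U₂ : Submodule F V}
  {H T : Subgroup K}

/-- `T` is a Sylow `t`-subgroup of `K` contained in `H` -/
structure SylT (ρ : Representation F K V) (f : V →ₗ[F] V →ₗ[F] F) (Q : V → F) (t : ℕ) (H T : Subgroup K) : Prop
    extends Std ρ f Q t H where
  hT : IsPGroup t T
  hTH : T ≤ H
  hmax : ∀ R : Subgroup K, IsPGroup t R → T ≤ R → R = T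

/-- `[V, B]`, `B` generated by the small elements -/
noncomputable def WB (ρ : Representation F K V) (t : ℕ) (H : Subgroup K) : Submodule F V :=
  CV ρ (Subgroup.closure (Zs ρ t H))

theorem Std.closure_comm (h : Std ρ f Q t H) :
    (∀ a ∈ Subgroup.closure (Zs ρ t H), ∀ b ∈ Subgroup.closure (Zs ρ t H), a * b = b * a) ∧
      IsPGroup t (Subgroup.closure (Zs ρ t H)) :=
  isPGroup_closure (fun _ ha _ hb => h.comm_zs ha hb) (fun _ ha => ha.2.1)

theorem Std.le_norm (_h : Std ρ f Q t H) :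
    H ≤ Subgroup.normalizer ((Subgroup.closure (Zs ρ t H) : Subgroup K) : Set K) :=
  le_normalizer_closure H _ fun _ hg _ hx => Zs_conj hg hx

theorem closure_le_H : Subgroup.closure (Zs ρ t H) ≤ H := by
  rw [Subgroup.closure_le]
  exact fun _ hx => hx.1

theorem CV_conj_le (D : Subgroup K) {g : K} (hg : ∀ d ∈ D, g * d * g⁻¹ ∈ D) :
    (CV ρ D).map (ρ g) ≤ CV ρ D := by
  rw [Submodule.map_le_iff_le_comap]
  refine CV_le fun d hd => ?_
  rintro _ ⟨v, rfl⟩
  show ρ g (ρ d v - v) ∈ CV ρ D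
  have h1 := sub_mem_CV ρ (hg d hd) (ρ g v)
  rw [mul_ap, mul_ap, inv_ap, ← map_sub] at h1
  exact h1

theorem map_eq_of_le {g : K} (hle : U.map (ρ g) ≤ U) : U.map (ρ g) = U := by
  apply Submodule.eq_of_le_of_finrank_eq hle
  have hinj : Function.Injective (ρ g) := by
    intro a b hab
    rw [← inv_ap ρ g a, ← inv_ap ρ g b, hab]
  exact (Submodule.equivMapOfInjective (ρ g) hinj U).finrank_eq.symm

theorem Std.WB_map (h : Std ρ f Q t H) {g : K} (hg : g ∈ H) : (WB ρ t H).map (ρ g) = WB ρ t H := by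
  apply map_eq_of_le
  apply CV_conj_le
  intro d hd
  exact (Subgroup.mem_normalizer_iff.mp (h.le_norm hg) d).mp hd

/-- `[V, D]` is nondegenerate -/
theorem nd_CV (h : IsoG ρ f Q) {D : Subgroup K} (hD : (Nat.card D : F) ≠ 0) : ND f (CV ρ D) := by
  intro w hw hx
  apply h.nd
  intro v
  have h1 : v - avg ρ D v ∈ CV ρ D := by
    apply VE_le_CV (E := ⊥) ρ hD
    refine ⟨?_, ?_⟩
    · intro e he
      rw [Subgroup.mem_bot] at he
      rw [he, one_ap]
    · rw [map_sub, avg_fixed ρ D hD (fun e he => map_avg ρ D he v), sub_self]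
  have h2 := hx _ h1
  rw [map_sub, LinearMap.sub_apply, avg_adj ρ f h.iso] at h2
  have h3 : avg ρ D w = 0 := by
    have h4 : CV ρ D ≤ LinearMap.ker (avg ρ D) := by
      refine CV_le fun d hd => ?_
      rintro _ ⟨v, rfl⟩
      rw [LinearMap.mem_ker]
      show avg ρ D (ρ d v - v) = 0
      rw [map_sub, avg_map ρ D hd, sub_self]
    exact h4 hw
  rw [h3, map_zero, sub_zero] at h2
  exact h2

theorem mem_Orth_CV (h : IsoG ρ f Q) {D : Subgroup K} {w : V} :
    w ∈ Orth f (CV ρ D) ↔ ∀ d ∈ D, ρ d w = w := by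
  constructor
  · intro hw d hd
    rw [← mem_Orth_sp h]
    exact fun u hu => hw u (range_le_CV ρ hd hu)
  · intro hw u hu
    have h1 : CV ρ D ≤ LinearMap.ker (f.flip w) := by
      refine CV_le fun d hd => ?_
      intro u hu
      rw [LinearMap.mem_ker, LinearMap.flip_apply]
      exact (mem_Orth_sp h).mpr (hw d hd) u hu
    have h2 := h1 hu
    rwa [LinearMap.mem_ker, LinearMap.flip_apply] at h2

theorem Std.nd_WB (h : Std ρ f Q t H) : ND f (WB ρ t H) := by
  apply nd_CV h.toIsoG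
  exact (piN_Pi0 Nat.card_pos.ne' (piN_of_pgroup (F := F) h.ht h.hto h.htF h.closure_comm.2)).2

/-- parts of elements of `T` on a `T`-invariant nondegenerate subspace belong to `T` -/
theorem SylT.part_mem (h : SylT ρ f Q t H T) (hU : ND f U) (hTU : ∀ x ∈ T, U.map (ρ x) = U) {x k : K}
    (hx : x ∈ T) (hk : IsPart ρ f U x k) : k ∈ T := by
  let P : Subgroup K :=
    { carrier := {k | ∃ x ∈ T, IsPart ρ f U x k}
      mul_mem' := by
        rintro a b ⟨x, hx, ha⟩ ⟨y, hy, hb⟩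
        exact ⟨x * y, T.mul_mem hx hy, ha.mul hb fun u hu => mem_of_map (hTU y hy) hu⟩
      one_mem' := ⟨1, T.one_mem, IsPart.one⟩
      inv_mem' := by
        rintro a ⟨x, hx, ha⟩
        exact ⟨x⁻¹, T.inv_mem hx, ha.inv (hTU x hx)⟩ }
  have hP : IsPGroup t P := by
    rintro ⟨k, x, hx, hk⟩
    obtain ⟨m, hm⟩ := hk.tel (t := t) h.toIsoG hU (fun u hu => mem_of_map (hTU x hx) hu) (by
      obtain ⟨m, hm⟩ := h.hT ⟨x, hx⟩
      exact ⟨m, congrArg Subtype.val hm⟩)
    exact ⟨m, Subtype.ext hm⟩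
  have hn : T ≤ Subgroup.normalizer (P : Set K) := by
    have key : ∀ g ∈ T, ∀ k ∈ P, g * k * g⁻¹ ∈ P := by
      rintro g hg k ⟨x, hx, hk⟩
      have h1 := hk.conj h.toIsoG g
      rw [hTU g hg] at h1
      exact ⟨g * x * g⁻¹, T.mul_mem (T.mul_mem hg hx) (T.inv_mem hg), h1⟩
    intro g hg
    rw [Subgroup.mem_normalizer_iff]
    intro k
    refine ⟨key g hg k, fun hk => ?_⟩
    have := key g⁻¹ (T.inv_mem hg) _ hk
    simpa [mul_assoc] using this
  have h1 : IsPGroup t (T ⊔ P : Subgroup K) := h.hT.to_sup_of_normal_right' hP hn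
  have h2 := h.hmax _ h1 le_sup_left
  rw [← h2]
  exact le_sup_right (a := T) (b := P) ⟨x, hx, hk⟩

theorem pow_of_fixed {x : K} {v : V} (h : ρ x v = v) (n : ℕ) : ρ (x ^ n) v = v := by
  induction n with
  | zero => rw [pow_zero, one_ap]
  | succ n ih => rw [pow_succ', mul_ap, ih, h]

/-- `T` acts trivially on `C_V(B)` -/
theorem SylT.fixed (h : SylT ρ f Q t H T) {x : K} (hx : x ∈ T) {w : V} (hw : w ∈ Orth f (WB ρ t H)) :
    ρ x w = w := by
  classical
  have htf : Fact t.Prime := ⟨h.ht⟩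
  by_contra hne
  set W := WB ρ t H with hW
  have hWT : ∀ x ∈ T, W.map (ρ x) = W := fun x hx => h.toStd.WB_map (h.hTH hx)
  have hWn : ND f W := h.toStd.nd_WB
  -- an element of `T` which is trivial on `W`
  obtain ⟨x', hx'T, hx'W, hx'1⟩ : ∃ x' ∈ T, (∀ u ∈ W, ρ x' u = u) ∧ x' ≠ 1 := by
    obtain ⟨k, hk⟩ := h.toIsoG.exists_part hWn (fun u hu => mem_of_map (hWT x hx) hu)
    have hkT := h.part_mem hWn hWT hx hk
    obtain ⟨h1, h2, -⟩ := split h.toIsoG hWn (hWT x hx) hk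
    refine ⟨x * k⁻¹, T.mul_mem hx (T.inv_mem hkT), h1, ?_⟩
    intro h0
    have h3 := h2 w hw
    rw [h0, one_ap] at h3
    exact hne h3.symm
  -- of order `t`
  obtain ⟨y, hyT, hyW, hyt, hy1⟩ : ∃ y ∈ T, (∀ u ∈ W, ρ y u = u) ∧ y ^ t = 1 ∧ y ≠ 1 := by
    obtain ⟨m, hm⟩ : ∃ m : ℕ, x' ^ t ^ m = 1 := by
      obtain ⟨m, hm⟩ := h.hT ⟨x', hx'T⟩
      exact ⟨m, congrArg Subtype.val hm⟩
    have hex : ∃ m : ℕ, x' ^ t ^ m = 1 := ⟨m, hm⟩
    have h1 := Nat.find_spec hex
    have h2 : Nat.find hex ≠ 0 := by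
      intro h0
      rw [h0, pow_zero, pow_one] at h1
      exact hx'1 h1
    obtain ⟨n, hn⟩ := Nat.exists_eq_succ_of_ne_zero h2
    refine ⟨x' ^ t ^ n, T.pow_mem hx'T _, fun u hu => pow_of_fixed (hx'W u hu) _, ?_, ?_⟩
    · rw [← pow_mul, ← pow_succ]
      rw [hn] at h1
      exact h1
    · have h3 := Nat.find_min hex (m := n) (by omega)
      exact h3
  -- a small element
  obtain ⟨z, hzt, hz1, hzr, hzW⟩ : ∃ z : K, z ^ t = 1 ∧ z ≠ 1 ∧ rk ρ z ≤ t - 1 ∧ ∀ u ∈ W, ρ z u = u := by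
    have hyt' : (ρ y) ^ t = 1 := by rw [← map_pow, hyt, map_one]
    have hy1' : ρ y ≠ 1 := fun h0 => hy1 (h.inj (by rw [h0, map_one]))
    obtain ⟨ε, hε, hsym⟩ := h.sym
    obtain ⟨v, hv, hvi⟩ := exists_vec f h.nd hε hsym h.hto h.htF hyt' hy1' (h.iso y)
    obtain ⟨z, U, hz1, hz2, hz3, hz4, hUy, hzU, hzO, hdec⟩ :=
      exists_small f h.toIsoG.refl h.ht.pos h.htF hyt' (h.iso y) hv hvi
    have hzQ : ∀ v, Q (z v) = Q v := by
      intro v
      obtain ⟨u, hu, w, hw, rfl⟩ := hdec v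
      rw [map_add, hzU u hu, hzO w hw, h.addQ _ _ (hw _ (hUy u hu)), h.addQ _ _ (hw u hu), h.isoQ]
    obtain ⟨k, hk⟩ := h.full z hz4 hzQ
    refine ⟨k, h.inj (by rw [map_pow, hk, hz1, map_one]), ?_, by unfold rk; rw [hk]; exact hz3, ?_⟩
    · intro h0
      rw [h0, map_one] at hk
      exact hz2 hk.symm
    · -- `supp z ≤ supp y`
      have h1 : sp ρ k ≤ sp ρ y := by
        rintro _ ⟨v, rfl⟩
        obtain ⟨u, hu, w, hw, rfl⟩ := hdec v
        have e : (ρ k - 1) (u + w) = ρ y u - u := by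
          show ρ k (u + w) - (u + w) = _
          rw [hk, map_add, hzU u hu, hzO w hw]
          abel
        rw [e]
        exact mem_sp u
      intro u hu
      rw [← mem_Orth_sp h.toIsoG]
      have h2 := (mem_Orth_sp h.toIsoG).mpr (hyW u hu)
      exact fun a ha => h2 a (h1 ha)
  -- the Sylow theorem in the group of isometries which are trivial on `W`
  let I₀ : Subgroup K :=
    { carrier := {g | ∀ u ∈ W, ρ g u = u}
      mul_mem' := fun {a b} ha hb u hu => by rw [mul_ap, hb u hu, ha u hu]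
      one_mem' := fun u _ => one_ap ρ u
      inv_mem' := fun {a} ha u hu => by
        nth_rewrite 1 [← ha u hu]
        rw [inv_ap] }
  have hT0 : IsPGroup t (T.subgroupOf I₀) :=
    h.hT.comap_of_injective I₀.subtype I₀.subtype_injective
  obtain ⟨S, hS⟩ := hT0.exists_le_sylow
  have hzI : z ∈ I₀ := hzW
  have hZ : IsPGroup t (Subgroup.zpowers (⟨z, hzI⟩ : I₀)) := by
    refine IsPGroup.of_card_dvd_pow (n := 1) ?_
    rw [Nat.card_zpowers, pow_one]
    exact orderOf_dvd_of_pow_eq_one (Subtype.ext hzt)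
  obtain ⟨S', hS'⟩ := hZ.exists_le_sylow
  obtain ⟨g, hg⟩ := MulAction.exists_smul_eq I₀ S' S
  have hgz : g * ⟨z, hzI⟩ * g⁻¹ ∈ (S : Subgroup I₀) := by
    rw [← hg]
    exact ⟨⟨z, hzI⟩, hS' (Subgroup.mem_zpowers _), rfl⟩
  -- `S ≤ T`
  have hST : (S : Subgroup I₀).map I₀.subtype ≤ T := by
    let T1 : Subgroup K :=
      { carrier := {k | k ∈ T ∧ ∀ v ∈ Orth f W, ρ k v = v}
        mul_mem' := fun {a b} ha hb => ⟨T.mul_mem ha.1 hb.1, fun u hu => by rw [mul_ap, hb.2 u hu, ha.2 u hu]⟩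
        one_mem' := ⟨T.one_mem, fun u _ => one_ap ρ u⟩
        inv_mem' := fun {a} ha => ⟨T.inv_mem ha.1, fun u hu => by
          nth_rewrite 1 [← ha.2 u hu]
          rw [inv_ap]⟩ }
    have hT1 : IsPGroup t T1 := h.hT.to_le fun k hk => hk.1
    have hS1 : IsPGroup t ((S : Subgroup I₀).map I₀.subtype) := S.isPGroup'.map _
    have hcomm : ∀ a ∈ (S : Subgroup I₀).map I₀.subtype, ∀ b ∈ T1, a * b = b * a := by
      rintro _ ⟨a, ha, rfl⟩ b hb
      have hbW : W.map (ρ b) = W := hWT b hb.1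
      have ha' : ∀ u ∈ W, ρ (a : K) u = u := a.2
      apply eq_of_parts h.inj hWn
      · intro u hu
        show ρ ((a : K) * b) u = ρ (b * (a : K)) u
        rw [mul_ap, mul_ap, ha' u hu, ha' _ (mem_of_map hbW hu)]
      · intro v hv
        show ρ ((a : K) * b) v = ρ (b * (a : K)) v
        have haW : W.map (ρ (a : K)) = W := by
          apply map_eq_of_le
          rintro _ ⟨u, hu, rfl⟩
          rw [ha' u hu]; exact hu
        rw [mul_ap, mul_ap, hb.2 v hv, hb.2 _ (mem_of_map (Orth_map_of_map h.toIsoG haW) hv)]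
    have hn : (S : Subgroup I₀).map I₀.subtype ≤ Subgroup.normalizer (T1 : Set K) := by
      intro a ha
      rw [Subgroup.mem_normalizer_iff]
      intro b
      constructor
      · intro hb
        rw [hcomm a ha b hb, mul_inv_cancel_right]
        exact hb
      · intro hb
        have h1 := hcomm a⁻¹ (Subgroup.inv_mem _ ha) _ hb
        have h2 : b = a * b * a⁻¹ := by
          have h3 : b = (a⁻¹ * (a * b * a⁻¹)) * a := by group
          have h4 : (a⁻¹ * (a * b * a⁻¹)) * a = a * b * a⁻¹ := by rw [h1]; group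
          exact h3.trans h4
        rw [h2]; exact hb
    have h1 := hS1.to_sup_of_normal_right' hT1 hn
    have h2 : T ≤ (S : Subgroup I₀).map I₀.subtype ⊔ T1 := by
      intro x hx
      obtain ⟨k, hk⟩ := h.toIsoG.exists_part hWn (fun u hu => mem_of_map (hWT x hx) hu)
      have hkT := h.part_mem hWn hWT hx hk
      obtain ⟨h1, -⟩ := split h.toIsoG hWn (hWT x hx) hk
      have hxk : x * k⁻¹ ∈ T := T.mul_mem hx (T.inv_mem hkT)
      have h3 : x = (x * k⁻¹) * k := by group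
      rw [h3]
      refine Subgroup.mul_mem _ (le_sup_left (a := (S : Subgroup I₀).map I₀.subtype) (b := T1) ?_)
        (le_sup_right (a := (S : Subgroup I₀).map I₀.subtype) (b := T1) ⟨hkT, hk.2⟩)
      exact ⟨⟨x * k⁻¹, h1⟩, hS hxk, rfl⟩
    have h3 := h.hmax _ h1 h2
    rw [← h3]
    exact le_sup_left
  set z' : K := (g : K) * z * (g : K)⁻¹ with hz'
  have hz'T : z' ∈ T := hST ⟨_, hgz, rfl⟩
  have hz's : Small ρ t z' := Small.conj ⟨⟨1, by rw [pow_one]; exact hzt⟩, hzr⟩ _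
  have hz'1 : z' ≠ 1 := by rw [hz', Ne, conj_eq_one_iff]; exact hz1
  have hz'W : ∀ u ∈ W, ρ z' u = u := by
    have : z' ∈ I₀ := I₀.mul_mem (I₀.mul_mem g.2 hzI) (I₀.inv_mem g.2)
    exact this
  have hz'Z : z' ∈ Zs ρ t H := ⟨h.hTH hz'T, hz's⟩
  have h1 : sp ρ z' ≤ W := range_le_CV ρ (Subgroup.subset_closure hz'Z)
  apply hz'1
  rw [← sp_eq_bot h.inj, eq_bot_iff]
  intro u hu
  refine (h.toStd.ndz hz'Z) u hu fun x hx => ?_
  exact (mem_Orth_sp h.toIsoG).mpr (hz'W u (h1 hu)) x hx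

/-- **a Sylow subgroup which fixes all blocks is generated by small elements** -/
theorem SylT.le_closure (h : SylT ρ f Q t H T) (hfix : ∀ x ∈ T, ∀ U ∈ Bl ρ t H, U.map (ρ x) = U) :
    T ≤ Subgroup.closure (Zs ρ t H) := by
  suffices key : ∀ n : ℕ, ∀ x ∈ T, finrank F (sp ρ x) = n → x ∈ Subgroup.closure (Zs ρ t H) from
    fun x hx => key _ x hx rfl
  intro n
  induction n using Nat.strong_induction_on with
  | _ n ih =>
    intro x hx hn
    by_cases hx1 : ∀ U ∈ Bl ρ t H, ∀ u ∈ U, ρ x u = u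
    · -- `x` is trivial
      have h1 : ∀ U ∈ Bl ρ t H, U ≤ Orth f (sp ρ x) := fun U hU u hu =>
        (mem_Orth_sp h.toIsoG).mpr (hx1 U hU u hu)
      have h2 : WB ρ t H ≤ Orth f (sp ρ x) :=
        CV_closure_le fun z hz => h.toStd.sp_le_of_bl h1 _ z hz rfl
      have h3 : x = 1 := by
        apply eq_of_parts h.inj h.toStd.nd_WB
        · intro u hu
          rw [one_ap]
          exact (mem_Orth_sp h.toIsoG).mp (h2 hu)
        · intro w hw
          rw [one_ap]
          exact h.fixed hx hw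
      rw [h3]
      exact Subgroup.one_mem _
    · push Not at hx1
      obtain ⟨U, hU, u, hu, hne⟩ := hx1
      have hnd := h.toStd.nd_bl hU
      have hTU : ∀ x ∈ T, U.map (ρ x) = U := fun x hx => hfix x hx U hU
      obtain ⟨k, hk⟩ := h.toIsoG.exists_part hnd (fun u hu => mem_of_map (hTU x hx) hu)
      have hkT := h.part_mem hnd hTU hx hk
      obtain ⟨-, -, -, -, -, h6⟩ := split h.toIsoG hnd (hTU x hx) hk
      have hlt := h6 ⟨u, hu, hne⟩
      rw [hn] at hlt
      have h7 := ih _ hlt _ (T.mul_mem hx (T.inv_mem hkT)) rfl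
      have hkZ : k ∈ Zs ρ t H := by
        obtain ⟨z, hz, rfl, -⟩ := hU
        refine ⟨h.hTH hkT, small_of_sp_le ?_ hz.2 ?_⟩
        · obtain ⟨m, hm⟩ := h.hT ⟨k, hkT⟩
          exact ⟨m, congrArg Subtype.val hm⟩
        · exact hk.sp_le hnd (fun u hu => mem_of_map (hTU x hx) hu)
      have h8 : x = (x * k⁻¹) * k := by group
      rw [h8]
      exact Subgroup.mul_mem _ h7 (Subgroup.subset_closure hkZ)

end Cfsg.Agent.H572.RV
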