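import Cfsg.Agent.H170.HL.PZ2
import Cfsg.Agent.H167.OP.Beta

/-!
# Weights of an abelian subgroup which is normalised but not centralised by a `t`-element (helper572)

`2 * t ≤ dim [V, D]` in the presence of a form, `t ≤ dim [V, D]` in general.
-/

set_option autoImplicit false
set_option linter.unusedSectionVars false

namespace Cfsg.Agent.H572.RV

open Module Cfsg.Agent.H167.OP Cfsg.Agent.H170.HL

section closed

variable {L : Type*} [Field L] {V : Type*} [AddCommGroup V] [Module L V] {G : Type*} [Group G]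

/-- the weight space -/
def Wt (ρ : Representation L G V) (D : Subgroup G) (χ : D → L) : Submodule L V where
  carrier := {v | ∀ d : D, ρ d v = χ d • v}
  zero_mem' := fun d => by rw [map_zero, smul_zero]
  add_mem' := fun {a b} ha hb d => by rw [map_add, ha d, hb d, smul_add]
  smul_mem' := fun c a ha d => by rw [map_smul, ha d, smul_comm]

theorem mem_Wt {ρ : Representation L G V} {D : Subgroup G} {χ : D → L} {v : V} :
    v ∈ Wt ρ D χ ↔ ∀ d : D, ρ d v = χ d • v := Iff.rfl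

theorem pow_ap {ρ : Representation L G V} {d : G} {v : V} {c : L} (h : ρ d v = c • v) (n : ℕ) :
    ρ (d ^ n) v = c ^ n • v := by
  induction n with
  | zero => rw [pow_zero, one_ap, pow_zero, one_smul]
  | succ n ih => rw [pow_succ', mul_ap, ih, map_smul, h, smul_smul, pow_succ]

theorem pow_card_eq [Finite G] {ρ : Representation L G V} {D : Subgroup G} {χ : D → L} {v : V}
    (hv : v ∈ Wt ρ D χ) (hv0 : v ≠ 0) (d : D) : χ d ^ Nat.card D = 1 := by
  have h1 := pow_ap (hv d) (Nat.card D)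
  have h2 : (d : G) ^ Nat.card D = 1 := by
    have := pow_card_eq_one' (x := d)
    exact congrArg Subtype.val this
  rw [h2, one_ap] at h1
  have h3 : (χ d ^ Nat.card D - 1) • v = 0 := by rw [sub_smul, one_smul, ← h1, sub_self]
  rcases smul_eq_zero.mp h3 with h | h
  · exact sub_eq_zero.mp h
  · exact absurd h hv0

theorem isSemisimple_of_pow {T : End L V} {n : ℕ} (hn : (n : L) ≠ 0) (h : T ^ n = 1) :
    T.IsSemisimple := by
  refine Module.End.isSemisimple_of_squarefree_aeval_eq_zero (p := Polynomial.X ^ n - 1)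
    ((Polynomial.X_pow_sub_one_separable_iff.mpr hn).squarefree) ?_
  rw [map_sub, map_pow, Polynomial.aeval_X, map_one, h, sub_self]

theorem Wt_eq [Finite G] [FiniteDimensional L V] (ρ : Representation L G V) {D : Subgroup G}
    (hD : (Nat.card D : L) ≠ 0) (χ : D → L) :
    Wt ρ D χ = ⨅ d : D, Module.End.maxGenEigenspace (ρ d) (χ d) := by
  have h1 : ∀ d : D, Module.End.maxGenEigenspace (ρ d) (χ d) = Module.End.eigenspace (ρ d) (χ d) := by
    intro d
    refine Module.End.IsFinitelySemisimple.maxGenEigenspace_eq_eigenspace ?_ _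
    have h2 : (ρ d) ^ Nat.card D = 1 := by
      rw [← map_pow]
      have := pow_card_eq_one' (x := d)
      have h3 : (d : G) ^ Nat.card D = 1 := congrArg Subtype.val this
      rw [h3, map_one]
    exact (isSemisimple_of_pow hD h2).isFinitelySemisimple
  simp only [h1]
  ext v
  rw [Submodule.mem_iInf, mem_Wt]
  exact forall_congr' fun d => Module.End.mem_eigenspace_iff.symm

theorem comm_ρ (ρ : Representation L G V) {D : Subgroup G} (hab : ∀ a ∈ D, ∀ b ∈ D, a * b = b * a)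
    (a b : D) : Commute (ρ a) (ρ b) := by
  show ρ a * ρ b = ρ b * ρ a
  rw [← map_mul, ← map_mul, hab a a.2 b b.2]

theorem iSup_Wt [Finite G] [FiniteDimensional L V] [IsAlgClosed L] (ρ : Representation L G V)
    {D : Subgroup G} (hD : (Nat.card D : L) ≠ 0) (hab : ∀ a ∈ D, ∀ b ∈ D, a * b = b * a) :
    ⨆ χ : D → L, Wt ρ D χ = ⊤ := by
  simp only [Wt_eq ρ hD]
  refine Module.End.iSup_iInf_maxGenEigenspace_eq_top_of_iSup_maxGenEigenspace_eq_top_of_commute
    (fun d : D => ρ d) (fun a b _ => comm_ρ ρ hab a b) fun d => ?_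
  exact Module.End.iSup_maxGenEigenspace_eq_top (ρ d)

theorem indep_Wt [Finite G] [FiniteDimensional L V] (ρ : Representation L G V)
    {D : Subgroup G} (hD : (Nat.card D : L) ≠ 0) (hab : ∀ a ∈ D, ∀ b ∈ D, a * b = b * a) :
    iSupIndep fun χ : D → L => Wt ρ D χ := by
  simp only [Wt_eq ρ hD]
  exact Module.End.independent_iInf_maxGenEigenspace_of_forall_mapsTo (fun d : D => ρ d)
    fun a b φ => Module.End.mapsTo_maxGenEigenspace_of_comm (comm_ρ ρ hab b a) φ

/-- a weight vector for a nontrivial weight lies in `[V, D]` -/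
theorem mem_CV_of_Wt {ρ : Representation L G V} {D : Subgroup G} {χ : D → L} {v : V}
    (hv : v ∈ Wt ρ D χ) (hχ : χ ≠ 1) : v ∈ CV ρ D := by
  obtain ⟨d, hd⟩ := Function.ne_iff.mp hχ
  rw [Pi.one_apply] at hd
  have h1 := sub_mem_CV ρ d.2 v
  rw [hv d] at h1
  have h2 : χ d • v - v = (χ d - 1) • v := by rw [sub_smul, one_smul]
  rw [h2] at h1
  have h3 := (CV ρ D).smul_mem (χ d - 1)⁻¹ h1
  rwa [smul_smul, inv_mul_cancel₀ (sub_ne_zero.mpr hd), one_smul] at h3

/-- a family of distinct nontrivial weights -/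
theorem card_le_finrank [Finite G] [FiniteDimensional L V] (ρ : Representation L G V)
    {D : Subgroup G} (hD : (Nat.card D : L) ≠ 0) (hab : ∀ a ∈ D, ∀ b ∈ D, a * b = b * a)
    {ι : Type*} [Fintype ι] (χ : ι → D → L) (hinj : Function.Injective χ) (hne : ∀ i, χ i ≠ 1)
    (hW : ∀ i, ∃ v ∈ Wt ρ D (χ i), v ≠ 0) : Fintype.card ι ≤ finrank L (CV ρ D) := by
  classical
  choose v hv hv0 using hW
  have h1 : iSupIndep fun i : ι => Wt ρ D (χ i) := (indep_Wt ρ hD hab).comp hinj
  have h2 : LinearIndependent L v := h1.linearIndependent _ hv hv0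
  have h3 : LinearIndependent L (fun i => (⟨v i, mem_CV_of_Wt (hv i) (hne i)⟩ : CV ρ D)) := by
    apply LinearIndependent.of_comp (CV ρ D).subtype
    exact h2
  exact h3.fintype_card_le_finrank

variable {t : ℕ} {y : G} {D : Subgroup G}

/-- conjugation of the weights by `y` -/
def tw [Finite G] (hn : Nrm y D) (χ : D → L) : D → L := fun d => χ ⟨y⁻¹ * d * y, nrm_inv hn d.2⟩

theorem tw_mem [Finite G] (ρ : Representation L G V) (hn : Nrm y D) {χ : D → L} {v : V}
    (hv : v ∈ Wt ρ D χ) : ρ y v ∈ Wt ρ D (tw hn χ) := by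
  intro d
  have h1 : (d : G) * y = y * (y⁻¹ * d * y) := by group
  rw [← mul_ap, h1, mul_ap, hv ⟨y⁻¹ * d * y, nrm_inv hn d.2⟩, map_smul]
  rfl

theorem tw_iter [Finite G] (hn : Nrm y D) (χ : D → L) (i : ℕ) (d : D)
    (hd : (y ^ i)⁻¹ * (d : G) * y ^ i ∈ D) :
    (tw hn)^[i] χ d = χ ⟨(y ^ i)⁻¹ * d * y ^ i, hd⟩ := by
  induction i generalizing χ with
  | zero =>
    show χ d = χ _
    congr 1
    apply Subtype.ext
    simp
  | succ i ih =>
    have hd' : (y ^ i)⁻¹ * (d : G) * y ^ i ∈ D := nrm_inv (nrm_pow hn i) d.2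
    rw [Function.iterate_succ_apply, ih _ hd']
    unfold tw
    congr 1
    apply Subtype.ext
    show y⁻¹ * ((y ^ i)⁻¹ * (d : G) * y ^ i) * y = (y ^ (i + 1))⁻¹ * d * y ^ (i + 1)
    rw [pow_succ]
    group

theorem tw_periodic [Finite G] (hn : Nrm y D) {n : ℕ} (hy : y ^ n = 1) (χ : D → L) :
    (tw hn)^[n] χ = χ := by
  funext d
  rw [tw_iter hn χ n d (by rw [hy]; simp)]
  congr 1
  apply Subtype.ext
  simp [hy]

theorem tw_inv [Finite G] (hn : Nrm y D) (χ : D → L) (i : ℕ) :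
    (tw hn)^[i] χ⁻¹ = ((tw hn)^[i] χ)⁻¹ := by
  induction i generalizing χ with
  | zero => rfl
  | succ i ih => rw [Function.iterate_succ_apply, Function.iterate_succ_apply, ← ih]; rfl

theorem tw_one [Finite G] (hn : Nrm y D) (i : ℕ) : (tw hn)^[i] (1 : D → L) = 1 := by
  induction i with
  | zero => rfl
  | succ i ih => rw [Function.iterate_succ_apply]; exact ih

theorem iter_mem [Finite G] (ρ : Representation L G V) (hn : Nrm y D) {χ : D → L} {v : V}
    (hv : v ∈ Wt ρ D χ) (i : ℕ) : ρ (y ^ i) v ∈ Wt ρ D ((tw hn)^[i] χ) := by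
  induction i with
  | zero => simpa using hv
  | succ i ih =>
    rw [pow_succ', mul_ap, Function.iterate_succ_apply']
    exact tw_mem ρ hn ih

theorem ap_ne_zero (ρ : Representation L G V) {v : V} (hv : v ≠ 0) (g : G) : ρ g v ≠ 0 := by
  intro h
  apply hv
  rw [← inv_ap ρ g v, h, map_zero]

/-- there is a weight moved by `y` -/
theorem exists_moved [Finite G] [FiniteDimensional L V] [IsAlgClosed L] (ρ : Representation L G V)
    (hD : (Nat.card D : L) ≠ 0) (hab : ∀ a ∈ D, ∀ b ∈ D, a * b = b * a) (hn : Nrm y D)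
    (hc : ∃ d ∈ D, ρ (y * d) ≠ ρ (d * y)) :
    ∃ χ : D → L, tw hn χ ≠ χ ∧ ∃ v ∈ Wt ρ D χ, v ≠ 0 := by
  by_contra hcon
  push Not at hcon
  obtain ⟨d, hd, hne⟩ := hc
  apply hne
  apply LinearMap.ext
  intro v
  have h1 : (⊤ : Submodule L V) ≤ LinearMap.eqLocus (ρ (y * d)) (ρ (d * y)) := by
    rw [← iSup_Wt ρ hD hab, iSup_le_iff]
    intro χ v hv
    rw [LinearMap.mem_eqLocus]
    by_cases hχ : tw hn χ = χ
    · rw [mul_ap, mul_ap, hv ⟨d, hd⟩, map_smul]
      have h2 := tw_mem ρ hn hv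
      rw [hχ] at h2
      exact (h2 ⟨d, hd⟩).symm
    · have := hcon χ hχ v hv
      rw [this, map_zero, map_zero]
  exact h1 (x := v) trivial

/-- injectivity of the orbit -/
theorem iter_inj [Finite G] (hn : Nrm y D) (ht : t.Prime) {k : ℕ} (hy : y ^ t ^ k = 1)
    {χ : D → L} (hχ : tw hn χ ≠ χ) :
    ∀ i < t, ∀ j < t, (tw hn)^[i] χ = (tw hn)^[j] χ → i = j := by
  have h1 : Function.minimalPeriod (tw hn) χ ∣ t ^ k :=
    Function.IsPeriodicPt.minimalPeriod_dvd (tw_periodic hn hy χ)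
  obtain ⟨m, -, hm⟩ := (Nat.dvd_prime_pow ht).mp h1
  have hm0 : m ≠ 0 := by
    rintro rfl
    rw [pow_zero] at hm
    exact hχ (Function.minimalPeriod_eq_one_iff_isFixedPt.mp hm)
  have h2 : t ≤ Function.minimalPeriod (tw hn) χ := by
    rw [hm]
    exact Nat.le_self_pow hm0 t
  intro i hi j hj hij
  exact Function.iterate_injOn_Iio_minimalPeriod (f := tw hn) (x := χ)
    (Set.mem_Iio.mpr (lt_of_lt_of_le hi h2)) (Set.mem_Iio.mpr (lt_of_lt_of_le hj h2)) hij

theorem iter_ne_one [Finite G] (hn : Nrm y D) {k : ℕ} (ht : t.Prime) (hy : y ^ t ^ k = 1)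
    {χ : D → L} (hχ : tw hn χ ≠ χ) (i : ℕ) : (tw hn)^[i] χ ≠ 1 := by
  intro h
  have h1 : (tw hn)^[t ^ k * i - i] ((tw hn)^[i] χ) = χ := by
    rw [← Function.iterate_add_apply, Nat.sub_add_cancel (Nat.le_mul_of_pos_left i (pow_pos ht.pos k))]
    exact tw_periodic hn (by rw [pow_mul, hy, one_pow]) χ
  rw [h, tw_one] at h1
  apply hχ
  rw [← h1]
  exact tw_one hn 1

/-- **the weight bound without a form** -/
theorem weights_closed [Finite G] [FiniteDimensional L V] [IsAlgClosed L]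
    (ρ : Representation L G V) (ht : t.Prime) {k : ℕ} (hy : y ^ t ^ k = 1)
    (hD : (Nat.card D : L) ≠ 0) (hab : ∀ a ∈ D, ∀ b ∈ D, a * b = b * a) (hn : Nrm y D)
    (hc : ∃ d ∈ D, ρ (y * d) ≠ ρ (d * y)) : t ≤ finrank L (CV ρ D) := by
  obtain ⟨χ, hχ, v, hv, hv0⟩ := exists_moved ρ hD hab hn hc
  have h1 := card_le_finrank ρ hD hab (fun i : Fin t => (tw hn)^[(i : ℕ)] χ)
    (fun i j hij => Fin.ext (iter_inj hn ht hy hχ i i.2 j j.2 hij))
    (fun i => iter_ne_one hn ht hy hχ i)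
    (fun i => ⟨_, iter_mem ρ hn hv i, ap_ne_zero ρ hv0 _⟩)
  rwa [Fintype.card_fin] at h1

/-- the inverse weight -/
theorem inv_weight [Finite G] [FiniteDimensional L V] [IsAlgClosed L]
    (ρ : Representation L G V) (hD : (Nat.card D : L) ≠ 0)
    (hab : ∀ a ∈ D, ∀ b ∈ D, a * b = b * a) (f : V →ₗ[L] V →ₗ[L] L)
    (hf : ∀ g u v, f (ρ g u) (ρ g v) = f u v) (hnd : ∀ x, (∀ y, f y x = 0) → x = 0)
    {χ : D → L} {v : V} (hv : v ∈ Wt ρ D χ) (hv0 : v ≠ 0) : ∃ w ∈ Wt ρ D χ⁻¹, w ≠ 0 := by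
  by_contra hcon
  push Not at hcon
  apply hv0
  apply hnd
  intro w
  have h1 : (⊤ : Submodule L V) ≤ LinearMap.ker (f.flip v) := by
    rw [← iSup_Wt ρ hD hab, iSup_le_iff]
    intro ψ w hw
    rw [LinearMap.mem_ker, LinearMap.flip_apply]
    by_cases hψ : ψ = χ⁻¹
    · rw [hψ] at hw
      rw [hcon w hw, map_zero, LinearMap.zero_apply]
    · obtain ⟨d, hd⟩ := Function.ne_iff.mp hψ
      have h2 := hf d w v
      rw [hw d, hv d, map_smul, map_smul, LinearMap.smul_apply, smul_eq_mul, smul_eq_mul] at h2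
      by_contra h3
      apply hd
      have h4 : χ d * ψ d = 1 := by
        have h5 : (χ d * ψ d) * f w v = 1 * f w v := by rw [one_mul, mul_assoc]; exact h2
        exact mul_right_cancel₀ h3 h5
      rw [Pi.inv_apply]
      exact eq_inv_of_mul_eq_one_right h4
  have h2 := h1 (x := w) trivial
  rwa [LinearMap.mem_ker, LinearMap.flip_apply] at h2

theorem eq_one_of_sq {c : L} {n : ℕ} (hn : Odd n) (h1 : c ^ n = 1) (h2 : c * c = 1) : c = 1 := by
  obtain ⟨m, rfl⟩ := hn
  rwa [pow_succ, pow_mul, pow_two, h2, one_pow, one_mul] at h1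

/-- **the weight bound with a form** -/
theorem weights_closed_form [Finite G] [FiniteDimensional L V] [IsAlgClosed L]
    (ρ : Representation L G V) (ht : t.Prime) (hto : Odd t) {k : ℕ} (hy : y ^ t ^ k = 1)
    (hDo : Odd (Nat.card D)) (hD : (Nat.card D : L) ≠ 0)
    (hab : ∀ a ∈ D, ∀ b ∈ D, a * b = b * a) (hn : Nrm y D)
    (hc : ∃ d ∈ D, ρ (y * d) ≠ ρ (d * y)) (f : V →ₗ[L] V →ₗ[L] L)
    (hf : ∀ g u v, f (ρ g u) (ρ g v) = f u v) (hnd : ∀ x, (∀ y, f y x = 0) → x = 0) :
    2 * t ≤ finrank L (CV ρ D) := by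
  obtain ⟨χ, hχ, v, hv, hv0⟩ := exists_moved ρ hD hab hn hc
  have hkey : ∀ i j : ℕ, (tw hn)^[i] χ ≠ ((tw hn)^[j] χ)⁻¹ := by
    intro i j hij
    set ψ := (tw hn)^[j] χ with hψ
    have hψw : ρ (y ^ j) v ∈ Wt ρ D ψ := iter_mem ρ hn hv j
    have hψ0 := ap_ne_zero ρ hv0 (y ^ j)
    -- `a` with `tw^[a] ψ = ψ⁻¹`
    have ha : (tw hn)^[i + (t ^ k * j - j)] ψ = ψ⁻¹ := by
      rw [hψ, ← Function.iterate_add_apply, ← hψ, ← hij]
      have h1 : i + (t ^ k * j - j) + j = i + t ^ k * j := by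
        have := Nat.le_mul_of_pos_left j (pow_pos ht.pos k)
        omega
      rw [h1, Function.iterate_add_apply]
      congr 1
      exact tw_periodic hn (by rw [pow_mul, hy, one_pow]) χ
    set a := i + (t ^ k * j - j)
    have h2 : (tw hn)^[2 * a] ψ = ψ := by
      rw [two_mul, Function.iterate_add_apply, ha, tw_inv, ha, inv_inv]
    have h3 : Function.minimalPeriod (tw hn) ψ ∣ 2 * a := Function.IsPeriodicPt.minimalPeriod_dvd h2
    have h4 : Function.minimalPeriod (tw hn) ψ ∣ t ^ k :=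
      Function.IsPeriodicPt.minimalPeriod_dvd (tw_periodic hn hy ψ)
    have h5 : Nat.Coprime (Function.minimalPeriod (tw hn) ψ) 2 :=
      Nat.Coprime.coprime_dvd_left h4 (Nat.Coprime.pow_left _ (Nat.coprime_two_right.mpr hto))
    have h6 : (tw hn)^[a] ψ = ψ :=
      Function.isPeriodicPt_iff_minimalPeriod_dvd.mpr (h5.dvd_of_dvd_mul_left h3)
    have h7 : ψ = ψ⁻¹ := h6.symm.trans ha
    have h8 : ψ = 1 := by
      funext d
      have h9 := congrFun h7 d
      rw [Pi.inv_apply] at h9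
      have h10 := pow_card_eq hψw hψ0 d
      have h0 : ψ d ≠ 0 := by
        intro h0
        rw [h0, zero_pow Nat.card_pos.ne'] at h10
        exact zero_ne_one h10
      refine eq_one_of_sq hDo h10 ?_
      nth_rewrite 2 [h9]
      exact mul_inv_cancel₀ h0
    exact iter_ne_one hn ht hy hχ j h8
  obtain ⟨w, hw, hw0⟩ := inv_weight ρ hD hab f hf hnd hv hv0
  have hχi : tw hn χ⁻¹ ≠ χ⁻¹ := by
    intro h
    apply hχ
    have h1 := tw_inv hn χ 1
    rw [Function.iterate_one] at h1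
    rw [h] at h1
    rw [← inv_inj]
    exact h1.symm
  have h1 := card_le_finrank ρ hD hab
    (Sum.elim (fun i : Fin t => (tw hn)^[(i : ℕ)] χ) (fun i : Fin t => (tw hn)^[(i : ℕ)] χ⁻¹))
    ?_ ?_ ?_
  · rw [Fintype.card_sum, Fintype.card_fin] at h1
    omega
  · rintro (i | i) (j | j) hij
    · exact congrArg Sum.inl (Fin.ext (iter_inj hn ht hy hχ i i.2 j j.2 hij))
    · exfalso
      have h2 : (tw hn)^[(i : ℕ)] χ = (tw hn)^[(j : ℕ)] χ⁻¹ := hij
      rw [tw_inv] at h2
      exact hkey _ _ h2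
    · exfalso
      have h2 : (tw hn)^[(i : ℕ)] χ⁻¹ = (tw hn)^[(j : ℕ)] χ := hij
      rw [tw_inv] at h2
      exact hkey _ _ h2.symm
    · exact congrArg Sum.inr (Fin.ext (iter_inj hn ht hy hχi i i.2 j j.2 hij))
  · rintro (i | i)
    · exact iter_ne_one hn ht hy hχ i
    · exact iter_ne_one hn ht hy hχi i
  · rintro (i | i)
    · exact ⟨_, iter_mem ρ hn hv i, ap_ne_zero ρ hv0 _⟩
    · exact ⟨_, iter_mem ρ hn hw i, ap_ne_zero ρ hw0 _⟩

end closed

section gen

variable {F : Type*} [Field F] {V : Type*} [AddCommGroup V] [Module F V]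
  [FiniteDimensional F V] {G : Type*} [Group G] [Finite G] {t : ℕ} {y : G} {D : Subgroup G}

omit [FiniteDimensional F V] [Finite G] in
theorem bc_tmul (K : Type*) [Field K] [Algebra F K] (ρ : Representation F G V) (g : G) (c : K) (v : V) :
    bc K ρ g (c ⊗ₜ[F] v) = c ⊗ₜ[F] ρ g v := LinearMap.baseChange_tmul _ _ _

theorem bc_ne_one (K : Type*) [Field K] [Algebra F K] (ρ : Representation F G V) {g : G}
    (hne : ρ g ≠ 1) : bc K ρ g ≠ 1 := by
  intro h0
  apply hne
  have h2 := finrank_range_bc K ρ g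
  have h0' : bc K ρ g - 1 = 0 := sub_eq_zero.mpr h0
  rw [h0', LinearMap.range_zero, finrank_bot] at h2
  have h3 := Submodule.finrank_eq_zero.mp h2.symm
  rw [LinearMap.range_eq_bot, sub_eq_zero] at h3
  exact h3

theorem bc_ne (K : Type*) [Field K] [Algebra F K] (ρ : Representation F G V) {g h : G}
    (hne : ρ g ≠ ρ h) : bc K ρ g ≠ bc K ρ h := by
  intro h0
  have h1 : ρ (h⁻¹ * g) ≠ 1 := by
    intro h1
    apply hne
    have h2 : ρ h * ρ (h⁻¹ * g) = ρ g := by rw [← map_mul, mul_inv_cancel_left]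
    rw [← h2, h1, mul_one]
  apply bc_ne_one K ρ h1
  rw [map_mul, h0, ← map_mul, inv_mul_cancel, map_one]

theorem finrank_CV_bc (K : Type*) [Field K] [Algebra F K] (ρ : Representation F G V) (D : Subgroup G) :
    finrank K (CV (bc K ρ) D) ≤ finrank F (CV ρ D) := by
  have h1 : CV (bc K ρ) D ≤ (CV ρ D).baseChange K := by
    refine CV_le fun d hd => ?_
    rintro _ ⟨x, rfl⟩
    induction x using TensorProduct.induction_on with
    | zero => rw [map_zero]; exact Submodule.zero_mem _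
    | tmul c v =>
      have h2 : (bc K ρ d - 1) (c ⊗ₜ[F] v) = c ⊗ₜ[F] (ρ d v - v) := by
        show bc K ρ d (c ⊗ₜ[F] v) - c ⊗ₜ[F] v = _
        rw [bc_tmul, TensorProduct.tmul_sub]
      rw [h2]
      exact Submodule.tmul_mem_baseChange_of_mem c (sub_mem_CV ρ hd v)
    | add x y hx hy => rw [map_add]; exact Submodule.add_mem _ hx hy
  refine (Submodule.finrank_mono h1).trans ?_
  have h2 : (CV ρ D).baseChange K = LinearMap.range ((CV ρ D).subtype.baseChange K) := rfl
  rw [h2]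
  refine (LinearMap.finrank_range_le _).trans ?_
  rw [Module.finrank_baseChange]

theorem card_cast_bc (K : Type*) [Field K] [Algebra F K] {n : ℕ} (h : (n : F) ≠ 0) : (n : K) ≠ 0 := by
  rw [← map_natCast (algebraMap F K)]
  exact (map_ne_zero_iff _ (algebraMap F K).injective).mpr h

/-- base change of a bilinear form -/
theorem exists_form_bc (K : Type*) [Field K] [Algebra F K] (ρ : Representation F G V)
    (f : V →ₗ[F] V →ₗ[F] F) (hf : ∀ g u v, f (ρ g u) (ρ g v) = f u v)
    (hnd : ∀ x, (∀ y, f y x = 0) → x = 0) :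
    ∃ f' : TensorProduct F K V →ₗ[K] TensorProduct F K V →ₗ[K] K,
      (∀ g u v, f' (bc K ρ g u) (bc K ρ g v) = f' u v) ∧ (∀ x, (∀ y, f' y x = 0) → x = 0) := by
  classical
  let B : LinearMap.BilinForm F V := f
  refine ⟨B.baseChange K, ?_, ?_⟩
  · intro g u v
    induction u using TensorProduct.induction_on with
    | zero => rw [map_zero, map_zero, LinearMap.zero_apply, LinearMap.zero_apply]
    | tmul c u =>
      induction v using TensorProduct.induction_on with
      | zero => rw [map_zero, map_zero, map_zero]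
      | tmul c' v =>
        rw [bc_tmul, bc_tmul, LinearMap.BilinForm.baseChange_tmul, LinearMap.BilinForm.baseChange_tmul]
        congr 1
        exact hf g u v
      | add x y hx hy => rw [map_add, map_add, map_add, hx, hy]
    | add x y hx hy => rw [map_add, map_add, map_add, LinearMap.add_apply, LinearMap.add_apply, hx, hy]
  · have h1 : B.Nondegenerate := LinearMap.BilinForm.Nondegenerate.ofSeparatingRight fun x hx => hnd x hx
    obtain ⟨b⟩ : Nonempty (Basis (Fin (finrank F V)) F V) := ⟨finBasis F V⟩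
    have h2 := (LinearMap.BilinForm.nondegenerate_iff_det_ne_zero b).mp h1
    have h3 : LinearMap.BilinForm.toMatrix (b.baseChange K) (B.baseChange K) =
        (LinearMap.BilinForm.toMatrix b B).map (algebraMap F K) := by
      ext i j
      rw [LinearMap.BilinForm.toMatrix_apply, Matrix.map_apply, LinearMap.BilinForm.toMatrix_apply,
        Module.Basis.baseChange_apply, Module.Basis.baseChange_apply, LinearMap.BilinForm.baseChange_tmul,
        mul_one, Algebra.smul_def, mul_one]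
    have h4 : (LinearMap.BilinForm.toMatrix (b.baseChange K) (B.baseChange K)).det ≠ 0 := by
      rw [h3]
      have h5 := RingHom.map_det (algebraMap F K) (LinearMap.BilinForm.toMatrix b B)
      rw [RingHom.mapMatrix_apply] at h5
      rw [← h5]
      exact (map_ne_zero_iff _ (algebraMap F K).injective).mpr h2
    have h5 := (LinearMap.BilinForm.nondegenerate_iff_det_ne_zero (b.baseChange K)).mpr h4
    exact h5.2

/-- **the weight bound without a form** -/
theorem weights (ρ : Representation F G V) (ht : t.Prime) (hy : ∃ k : ℕ, y ^ t ^ k = 1)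
    (hD : (Nat.card D : F) ≠ 0) (hab : ∀ a ∈ D, ∀ b ∈ D, a * b = b * a) (hn : Nrm y D)
    (hc : ∃ d ∈ D, ρ (y * d) ≠ ρ (d * y)) : t ≤ finrank F (CV ρ D) := by
  obtain ⟨k, hy⟩ := hy
  refine le_trans ?_ (finrank_CV_bc (AlgebraicClosure F) ρ D)
  obtain ⟨d, hd, hne⟩ := hc
  exact weights_closed _ ht hy (card_cast_bc _ hD) hab hn ⟨d, hd, bc_ne _ ρ hne⟩

/-- **the weight bound with a form** -/
theorem weights_form (ρ : Representation F G V) (ht : t.Prime) (hto : Odd t)
    (hy : ∃ k : ℕ, y ^ t ^ k = 1) (hDo : Odd (Nat.card D))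
    (hD : (Nat.card D : F) ≠ 0) (hab : ∀ a ∈ D, ∀ b ∈ D, a * b = b * a) (hn : Nrm y D)
    (hc : ∃ d ∈ D, ρ (y * d) ≠ ρ (d * y)) (f : V →ₗ[F] V →ₗ[F] F)
    (hf : ∀ g u v, f (ρ g u) (ρ g v) = f u v) (hnd : ∀ x, (∀ y, f y x = 0) → x = 0) :
    2 * t ≤ finrank F (CV ρ D) := by
  obtain ⟨k, hy⟩ := hy
  refine le_trans ?_ (finrank_CV_bc (AlgebraicClosure F) ρ D)
  obtain ⟨d, hd, hne⟩ := hc
  obtain ⟨f', hf', hnd'⟩ := exists_form_bc (AlgebraicClosure F) ρ f hf hnd
  exact weights_closed_form _ ht hto hy hDo (card_cast_bc _ hD) hab hn ⟨d, hd, bc_ne _ ρ hne⟩ f' hf' hnd'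

end gen

end Cfsg.Agent.H572.RV
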